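import Mathlib
import Cfsg.Agent.Lib.MC.MCDefs
import Cfsg.Agent.Lib.MC.MCK
import Cfsg.Agent.Lib.MC.MCCong
import Cfsg.Agent.Lib.MC.MCBil
import Cfsg.Agent.Lib.MC.MCCard
import Cfsg.Agent.Lib.MC.MCFrat
import Cfsg.Agent.Lib.MC.MCKeyA

/-!
# PIECE MC4E-CNM: generation by `x ∈ H - K 2` and `s ∉ H`, and `⁅s, x⁆ ∉ K 3`; `⁅H, H⁆ ≤ K 3` (small-medium)
(block (E) of S4144/S5238, design helper22)

`Y` of maximal class of order `p ^ n`, `H` a subgroup of index `p` containing `K 2`.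
* `mc4e_sup_eq`: for `x ∈ H`, `x ∉ K 2`: `H ≤ closure {x} ⊔ K 2`.  Copy the first half of the proof of
  `closure_pair_eq_top` (Lib/MC/MCFrat.lean): with `L := closure {x} ⊔ K 2`, `K 2 ≤ L ⊓ H ≤ H`,
  `relIndex_mul_index` twice, `index_K_two` (`= p ^ 2`), `mcfrat_aux`.
* `mc4e_closure_pair`: `closure {x, s} = ⊤` for `x ∈ H`, `x ∉ K 2`, `s ∉ H`: copy the proof of `closure_pair_eq_top`
  (there `H₂` is only used to get `x ∉ K 2`).
* `mc4e_comm_not_mem`: as `keya_base` (Lib/MC/MCKeyA.lean): if `⁅s, x⁆ ∈ K 3` then by `keya_left`/`keya_right`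
  (with `hcl := mc4e_closure_pair`) all commutators lie in `K 3`, so `K 2 = ⁅K 1, ⊤⁆ ≤ K 3`, against `K_succ_lt`.
* `mc4e_comm_H`: for `g ∈ H`: if `g ∈ K 2` then `⁅g, h⁆ ∈ K 3` (`comm_mem_succ`).  Otherwise the set
  `{h | ⁅g, h⁆ ∈ K 3}` is closed under products and inverses (`comm_mul_right_cong`, `comm_inv_right_cong` with
  `i = j = 1`, `Cong Y 2` = congruence mod `K 3`; or `Subgroup.closure_induction` / `Subgroup.sup_induction` on
  `closure {g} ⊔ K 2`), contains `g` (`commutatorElement_self`) and `K 2` (`comm_mem_succ'`), hence contains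
  `closure {g} ⊔ K 2 ≥ H` (`mc4e_sup_eq`).  Then `Subgroup.commutator_le`.
Auxiliary lemmas prefixed `mc4ecnm_`.
-/

set_option autoImplicit false

namespace Cfsg.Agent.Helper21.MC

open scoped commutatorElement

variable {Y : Type*} [Group Y] [Finite Y] {p : ℕ} [Fact p.Prime] {n : ℕ}

theorem mc4e_sup_eq (hn : 3 ≤ n) (hY : IsMC p n Y) (H : Subgroup Y) (hK : K Y 2 ≤ H)
    (hi : H.index = p) {x : Y} (hx : x ∈ H) (hx' : x ∉ K Y 2) :
    H ≤ Subgroup.closure {x} ⊔ K Y 2 := by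
  have hp : p.Prime := Fact.out
  have hxL : x ∈ Subgroup.closure {x} ⊔ K Y 2 :=
    (le_sup_left : Subgroup.closure {x} ≤ _) (Subgroup.subset_closure (by simp))
  have hKL : K Y 2 ≤ Subgroup.closure {x} ⊔ K Y 2 := le_sup_right
  have hKA : K Y 2 ≤ (Subgroup.closure {x} ⊔ K Y 2) ⊓ H := le_inf hKL hK
  have hxA : x ∈ (Subgroup.closure {x} ⊔ K Y 2) ⊓ H := ⟨hxL, hx⟩
  have e1 := Subgroup.relIndex_mul_index hKA
  rw [index_K_two hn hY] at e1
  have e2 := Subgroup.relIndex_mul_index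
    (inf_le_right : (Subgroup.closure {x} ⊔ K Y 2) ⊓ H ≤ H)
  rw [hi] at e2
  have hr1 : (K Y 2).relIndex ((Subgroup.closure {x} ⊔ K Y 2) ⊓ H) ≠ 1 := by
    intro h
    rw [Subgroup.relIndex_eq_one] at h
    exact hx' (h hxA)
  have e3 : (K Y 2).relIndex ((Subgroup.closure {x} ⊔ K Y 2) ⊓ H) *
      ((Subgroup.closure {x} ⊔ K Y 2) ⊓ H).relIndex H = p := by
    rw [← e2, ← mul_assoc] at e1
    have h4 : p ^ 2 = p * p := pow_two p
    rw [h4] at e1
    exact Nat.eq_of_mul_eq_mul_right hp.pos e1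
  have hr2 := mcfrat_aux hp hr1 e3
  rw [Subgroup.relIndex_eq_one] at hr2
  exact hr2.trans inf_le_left

theorem mc4e_closure_pair (hn : 3 ≤ n) (hY : IsMC p n Y) (H : Subgroup Y) (hK : K Y 2 ≤ H)
    (hi : H.index = p) {x s : Y} (hx : x ∈ H) (hx' : x ∉ K Y 2) (hs : s ∉ H) :
    Subgroup.closure {x, s} = ⊤ := by
  have hp : p.Prime := Fact.out
  apply sup_K_two_eq_top hn hY
  have hxL : x ∈ Subgroup.closure {x, s} ⊔ K Y 2 :=
    (le_sup_left : Subgroup.closure {x, s} ≤ _) (Subgroup.subset_closure (by simp))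
  have hsL : s ∈ Subgroup.closure {x, s} ⊔ K Y 2 :=
    (le_sup_left : Subgroup.closure {x, s} ≤ _) (Subgroup.subset_closure (by simp))
  have hKL : K Y 2 ≤ Subgroup.closure {x, s} ⊔ K Y 2 := le_sup_right
  have hKA : K Y 2 ≤ (Subgroup.closure {x, s} ⊔ K Y 2) ⊓ H := le_inf hKL hK
  have hxA : x ∈ (Subgroup.closure {x, s} ⊔ K Y 2) ⊓ H := ⟨hxL, hx⟩
  have e1 := Subgroup.relIndex_mul_index hKA
  rw [index_K_two hn hY] at e1
  have e2 := Subgroup.relIndex_mul_index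
    (inf_le_right : (Subgroup.closure {x, s} ⊔ K Y 2) ⊓ H ≤ H)
  rw [hi] at e2
  have hr1 : (K Y 2).relIndex ((Subgroup.closure {x, s} ⊔ K Y 2) ⊓ H) ≠ 1 := by
    intro h
    rw [Subgroup.relIndex_eq_one] at h
    exact hx' (h hxA)
  have e3 : (K Y 2).relIndex ((Subgroup.closure {x, s} ⊔ K Y 2) ⊓ H) *
      ((Subgroup.closure {x, s} ⊔ K Y 2) ⊓ H).relIndex H = p := by
    rw [← e2, ← mul_assoc] at e1
    have h4 : p ^ 2 = p * p := pow_two p
    rw [h4] at e1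
    exact Nat.eq_of_mul_eq_mul_right hp.pos e1
  have hr2 := mcfrat_aux hp hr1 e3
  rw [Subgroup.relIndex_eq_one] at hr2
  have hHL : H ≤ Subgroup.closure {x, s} ⊔ K Y 2 := hr2.trans inf_le_left
  have e4 := Subgroup.relIndex_mul_index hHL
  rw [hi] at e4
  have hr3 : H.relIndex (Subgroup.closure {x, s} ⊔ K Y 2) ≠ 1 := by
    intro h
    rw [Subgroup.relIndex_eq_one] at h
    exact hs (h hsL)
  have hr4 := mcfrat_aux hp hr3 e4
  exact Subgroup.index_eq_one.mp hr4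

theorem mc4e_comm_not_mem (hn : 3 ≤ n) (hY : IsMC p n Y) (H : Subgroup Y) (hK : K Y 2 ≤ H)
    (hi : H.index = p) {x s : Y} (hx : x ∈ H) (hx' : x ∉ K Y 2) (hs : s ∉ H) :
    ⁅s, x⁆ ∉ K Y 3 := by
  intro hc
  have hlt : K Y (2 + 1) < K Y 2 := K_succ_lt hn hY 2 (by norm_num) (by omega)
  apply not_le_of_gt hlt
  have hcl : Subgroup.closure {x, s} = ⊤ := mc4e_closure_pair hn hY H hK hi hx hx' hs
  have hxs : ⁅x, s⁆ ∈ K Y 3 := by
    rw [comm_swap s x]
    exact inv_mem hc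
  have hxx : ⁅x, x⁆ ∈ K Y 3 := by
    rw [commutatorElement_self]
    exact one_mem _
  have hss : ⁅s, s⁆ ∈ K Y 3 := by
    rw [commutatorElement_self]
    exact one_mem _
  have hall : ∀ a b : Y, ⁅a, b⁆ ∈ K Y 3 := fun a b =>
    keya_right a (keya_left x hxx hc hcl a) (keya_left s hxs hss hcl a) hcl b
  show K Y (1 + 1) ≤ K Y 3
  rw [K_succ 1 le_rfl, Subgroup.commutator_le]
  intro a _ b _
  exact hall a b

omit [Finite Y] in
/-- the elements whose commutator with `g` lies in `K 3` form a subgroup -/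
theorem mc4ecnm_sub (g : Y) : ∃ T : Subgroup Y, ∀ h, h ∈ T ↔ ⁅g, h⁆ ∈ K Y 3 := by
  have htop : ∀ a : Y, a ∈ K Y 1 := fun a => by rw [K_one]; trivial
  refine ⟨{ carrier := {h | ⁅g, h⁆ ∈ K Y 3}
            mul_mem' := ?_
            one_mem' := ?_
            inv_mem' := ?_ }, fun h => Iff.rfl⟩
  · intro a b ha hb
    have h1 : Cong Y (1 + 1) ⁅g, a * b⁆ (⁅g, a⁆ * ⁅g, b⁆) :=
      comm_mul_right_cong le_rfl le_rfl (htop g) (htop a) (htop b)
    exact h1.symm.mem_succ (mul_mem ha hb)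
  · show ⁅g, (1 : Y)⁆ ∈ K Y 3
    rw [commutatorElement_one_right]
    exact one_mem _
  · intro a ha
    have h1 : Cong Y (1 + 1) ⁅g, a⁻¹⁆ ⁅g, a⁆⁻¹ :=
      comm_inv_right_cong le_rfl le_rfl (htop g) (htop a)
    exact h1.symm.mem_succ (inv_mem ha)

theorem mc4e_comm_H (hn : 3 ≤ n) (hY : IsMC p n Y) (H : Subgroup Y) (hK : K Y 2 ≤ H)
    (hi : H.index = p) : ⁅H, H⁆ ≤ K Y 3 := by
  rw [Subgroup.commutator_le]
  intro g hg h hh
  by_cases hg2 : g ∈ K Y 2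
  · exact comm_mem_succ (by norm_num) hg2 h
  · obtain ⟨T, hT⟩ := mc4ecnm_sub g
    have hgT : g ∈ T := by
      rw [hT, commutatorElement_self]
      exact one_mem _
    have hKT : K Y 2 ≤ T := by
      intro b hb
      rw [hT]
      exact comm_mem_succ' (by norm_num) hb g
    have hle : Subgroup.closure {g} ⊔ K Y 2 ≤ T :=
      sup_le ((Subgroup.closure_le T).mpr (Set.singleton_subset_iff.mpr hgT)) hKT
    exact (hT h).mp (hle (mc4e_sup_eq hn hY H hK hi hg hg2 hh))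

end Cfsg.Agent.Helper21.MC
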