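import Mathlib
import Cfsg.Agent.Lib.MC.MCDefs
import Cfsg.Agent.Lib.MC.MCK
import Cfsg.Agent.Lib.MC.MCPow
import Cfsg.Agent.Lib.MC.MCQuot

/-!
# MC4 deep block, part A (helper5): the power formula with its top term, and transfer to quotients

* `mc4_add`, `mc4_qProd_odd`: for `p` odd, `x` in an abelian normal subgroup `N`, `N' ≤ N` of exponent `p`
  containing `⁅x, s⁆` and stable under `⁅·, s⁆`:  `qProd x s p = x ^ p * iterComm x s (p - 1)`
  (the version of `qProd_eq_pow` that keeps the term `l = p - 1`).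
* `mc4_map_iterComm`, `mc4_map_qProd`: images under homomorphisms.
* `mc4_inM_quot_of`, `mc4_inM_of_quot`, `mc4_uniform_quot`: two-step centralizers and uniform elements
  in the quotients `Y ⧸ K Y m`.
-/

set_option autoImplicit false

namespace Cfsg.Agent.Helper21.MC

open scoped commutatorElement

variable {Y : Type*} [Group Y]

theorem mc4_add {A : Type*} [AddCommGroup A] (σ : AddMonoid.End A) (a : A) (p : ℕ) (hp : p.Prime)
    (hodd : p ≠ 2) (h2 : ∀ k, 1 ≤ k → p • (((1 - σ) ^ k) a) = 0) :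
    (∑ j ∈ Finset.range p, σ ^ j) a = p • a + ((1 - σ) ^ (p - 1)) a := by
  have hp3 : 3 ≤ p := by
    have := hp.two_le
    omega
  have hg := mcpow_geom (1 - σ) p
  rw [sub_sub_cancel] at hg
  rw [hg]
  have happ : (∑ k ∈ Finset.range p, (-1) ^ k * (p.choose (k + 1) : AddMonoid.End A) * (1 - σ) ^ k) a =
      ∑ k ∈ Finset.range p, ((-1) ^ k * (p.choose (k + 1) : AddMonoid.End A) * (1 - σ) ^ k) a :=
    AddMonoidHom.finsetSum_apply _ _ _
  rw [happ, Finset.sum_eq_add (0 : ℕ) (p - 1) (by omega)]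
  · congr 1
    · simp
    · have heven : Even (p - 1) := hp.even_sub_one hodd
      rw [heven.neg_one_pow, one_mul, show p - 1 + 1 = p by omega, Nat.choose_self, Nat.cast_one,
        one_mul]
  · intro k hk hk0
    have hkp : k < p := Finset.mem_range.mp hk
    have hz : ((p.choose (k + 1) : AddMonoid.End A) * (1 - σ) ^ k) a = 0 := by
      rw [mcpow_mul_apply, AddMonoid.End.natCast_apply]
      have hdvd : p ∣ p.choose (k + 1) := hp.dvd_choose_self (by omega) (by omega)
      obtain ⟨c, hc⟩ := hdvd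
      rw [hc, mul_comm, mul_smul, h2 k (by omega), smul_zero]
    rw [mul_assoc, mcpow_mul_apply, hz, map_zero]
  · intro h
    exact absurd (Finset.mem_range.mpr hp.pos) h
  · intro h
    exact absurd (Finset.mem_range.mpr (by omega)) h

open scoped IsMulCommutative in
theorem mc4_qProd_odd {p : ℕ} [Fact p.Prime] (hodd : p ≠ 2) (N N' : Subgroup Y) [N.Normal]
    (hab : ∀ a ∈ N, ∀ b ∈ N, a * b = b * a) (hN' : N' ≤ N) {x s : Y} (hx : x ∈ N)
    (hxs : ⁅x, s⁆ ∈ N') (hst : ∀ b ∈ N', ⁅b, s⁆ ∈ N') (hexp : ∀ b ∈ N', b ^ p = 1) :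
    qProd x s p = x ^ p * iterComm x s (p - 1) := by
  have hcomm : IsMulCommutative ↥N := ⟨⟨fun a b => Subtype.ext (hab a a.2 b b.2)⟩⟩
  let c : ↥N →* ↥N := (MulAut.conjNormal s : MulAut ↥N).toMonoidHom
  have hc : ∀ a : ↥N, ((c a : ↥N) : Y) = s * a * s⁻¹ := fun a => MulAut.conjNormal_apply s a
  let σ : AddMonoid.End (Additive ↥N) := MonoidHom.toAdditive c
  have hσ : ∀ a : Additive ↥N, σ a = Additive.ofMul (c (Additive.toMul a)) := fun a => rfl
  let x' : Additive ↥N := Additive.ofMul ⟨x, hx⟩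
  have hQ : ∀ m : ℕ,
      ((Additive.toMul ((∑ j ∈ Finset.range m, σ ^ j) x') : ↥N) : Y) = qProd x s m := by
    intro m
    induction m with
    | zero => simp [qProd]
    | succ m ih =>
      rw [Finset.sum_range_succ', pow_zero]
      have h1 : ∑ j ∈ Finset.range m, σ ^ (j + 1) = σ * ∑ j ∈ Finset.range m, σ ^ j := by
        rw [Finset.mul_sum]
        exact Finset.sum_congr rfl fun j _ => pow_succ' σ j
      rw [h1]
      show ((Additive.toMul (σ ((∑ j ∈ Finset.range m, σ ^ j) x') + x') : ↥N) : Y) =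
        x * (s * qProd x s m * s⁻¹)
      rw [toMul_add, Subgroup.coe_mul, hσ, toMul_ofMul, hc, ih]
      have hmem : s * qProd x s m * s⁻¹ ∈ N := by
        rw [← ih, ← hc]
        exact (c _).2
      exact hab _ hmem _ hx
  have hT : ∀ k : ℕ, ((Additive.toMul (((1 - σ) ^ k) x') : ↥N) : Y) = iterComm x s k := by
    intro k
    induction k with
    | zero => rfl
    | succ k ih =>
      rw [pow_succ', mcpow_mul_apply]
      show ((Additive.toMul (((1 - σ) ^ k) x' - σ (((1 - σ) ^ k) x')) : ↥N) : Y) =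
        ⁅iterComm x s k, s⁆
      rw [toMul_sub, Subgroup.coe_div, hσ, toMul_ofMul, hc, ih, commutatorElement_def,
        div_eq_mul_inv]
      group
  have hN'k : ∀ k : ℕ, 1 ≤ k → iterComm x s k ∈ N' := by
    intro k hk
    induction k with
    | zero => omega
    | succ k ih =>
      rcases Nat.eq_zero_or_pos k with h0 | hpos
      · subst h0
        exact hxs
      · exact hst _ (ih hpos)
  have h2 : ∀ k, 1 ≤ k → p • (((1 - σ) ^ k) x') = 0 := by
    intro k hk
    have h3 : Additive.toMul (p • (((1 - σ) ^ k) x')) = 1 := by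
      apply Subtype.ext
      rw [toMul_nsmul, Subgroup.coe_pow, hT, hexp _ (hN'k k hk)]
      rfl
    exact toMul_eq_one.mp h3
  have hmain := mc4_add σ x' p (Fact.out) hodd h2
  rw [← hQ p, hmain, toMul_add, Subgroup.coe_mul, toMul_nsmul, Subgroup.coe_pow, hT]
  rfl

theorem mc4_map_iterComm {Z : Type*} [Group Z] (f : Y →* Z) (x s : Y) (m : ℕ) :
    f (iterComm x s m) = iterComm (f x) (f s) m := by
  induction m with
  | zero => rfl
  | succ m ih =>
    show f ⁅iterComm x s m, s⁆ = ⁅iterComm (f x) (f s) m, f s⁆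
    rw [map_commutatorElement, ih]

theorem mc4_map_qProd {Z : Type*} [Group Z] (f : Y →* Z) (x s : Y) (m : ℕ) :
    f (qProd x s m) = qProd (f x) (f s) m := by
  induction m with
  | zero => exact map_one f
  | succ m ih =>
    show f (x * (s * qProd x s m * s⁻¹)) = f x * (f s * qProd (f x) (f s) m * (f s)⁻¹)
    rw [map_mul, map_mul, map_mul, map_inv, ih]

variable [Finite Y]

/-- every element of `K (Y ⧸ K Y m) j` is the image of an element of `K Y j` -/
theorem mc4_exists_rep (m j : ℕ) {b : Y ⧸ K Y m} (hb : b ∈ K (Y ⧸ K Y m) j) :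
    ∃ a ∈ K Y j, QuotientGroup.mk' (K Y m) a = b := by
  rw [K_quotient, Subgroup.mem_map] at hb
  exact hb

theorem mc4_mk_mem (m j : ℕ) {a : Y} (ha : a ∈ K Y j) :
    QuotientGroup.mk' (K Y m) a ∈ K (Y ⧸ K Y m) j := by
  rw [K_quotient]
  exact Subgroup.mem_map_of_mem _ ha

theorem mc4_inM_quot_of (m j : ℕ) (g : Y) (h : InM Y j g) :
    InM (Y ⧸ K Y m) j (QuotientGroup.mk' (K Y m) g) := by
  intro a ha
  obtain ⟨b, hb, rfl⟩ := mc4_exists_rep m j ha
  rw [← map_commutatorElement]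
  exact mc4_mk_mem m (j + 2) (h b hb)

theorem mc4_inM_of_quot (m j : ℕ) (hjm : j + 2 ≤ m) (g : Y)
    (h : InM (Y ⧸ K Y m) j (QuotientGroup.mk' (K Y m) g)) : InM Y j g := by
  intro a ha
  have h1 := h (QuotientGroup.mk' (K Y m) a) (mc4_mk_mem m j ha)
  rw [← map_commutatorElement] at h1
  exact (mk_mem_K_quotient_iff m (j + 2) hjm _).mp h1

theorem mc4_inM_quot_iff (m j : ℕ) (hjm : j + 2 ≤ m) (g : Y) :
    InM (Y ⧸ K Y m) j (QuotientGroup.mk' (K Y m) g) ↔ InM Y j g :=
  ⟨mc4_inM_of_quot m j hjm g, mc4_inM_quot_of m j g⟩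

theorem mc4_uniform_quot {n m : ℕ} (hm : m ≤ n) {s : Y} (hs : IsUniform n Y s) :
    IsUniform m (Y ⧸ K Y m) (QuotientGroup.mk' (K Y m) s) := by
  intro j hj hjm h
  exact hs j hj (by omega) (mc4_inM_of_quot m j hjm s h)

/-- `mk a = 1` in `Y ⧸ K Y m` iff `a ∈ K Y m` -/
theorem mc4_mk_eq_one_iff (m : ℕ) (a : Y) :
    QuotientGroup.mk' (K Y m) a = 1 ↔ a ∈ K Y m :=
  QuotientGroup.eq_one_iff a

end Cfsg.Agent.Helper21.MC
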