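import Mathlib
import Cfsg.Agent.Lib.MC.MCDefs
import Cfsg.Agent.Lib.MC.MCK
import Cfsg.Agent.Lib.MC.MCCard
import Cfsg.Agent.Lib.MC.MCTwo
import Cfsg.Agent.Lib.MC.MCUnif
import Cfsg.Agent.Lib.MC.MCUnifB
import Cfsg.Agent.Lib.MC.MCPow
import Cfsg.Agent.Lib.MC.MCExp
import Cfsg.Agent.Lib.MC.MCQuot
import Cfsg.Agent.Lib.MC4.MC4DeepA

/-!
# MC4 deep block, part B (helper5): the power shift at the deep levels `i ≥ p - 2`

`Y` of maximal class of order `p ^ n` (`4 ≤ n`), `s` a uniform element.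

* `mc4_upper` (`p` odd): `2 ≤ i`, `p ≤ i + 2`, `x ∈ K Y i`  ⟹  `x ^ p ∈ K Y (i + p - 1)`.
* `mc4_lower` (`p` odd): `2 ≤ i`, `p ≤ i + 1`, `i + p ≤ n`, `x ∈ K Y i`, `x ∉ K Y (i + 1)`  ⟹
  `x ^ p ∉ K Y (i + p)`.

Both are proved in the quotient `Y ⧸ K Y m` (`m = i + p - 1`, resp. `i + p`), where the image of `K Y i` is abelian
(`K_abelian`), `(x s) ^ p = s ^ p` (`mul_pow_p`) and `(x s) ^ p = qProd x s p * s ^ p`, with the formulas
`qProd_eq_pow` / `mc4_qProd_odd` for `qProd x s p`.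
-/

set_option autoImplicit false

namespace Cfsg.Agent.Helper21.MC

open scoped commutatorElement

variable {Y : Type*} [Group Y] [Finite Y] {p : ℕ} [Fact p.Prime] {n : ℕ}

/-- `(x * s) ^ p = s ^ p` gives `qProd x s p = 1` -/
theorem mc4_qProd_eq_one (hn : 4 ≤ n) (hY : IsMC p n Y) {s : Y} (hs : IsUniform n Y s) {x : Y}
    (hx : x ∈ K Y 2) : qProd x s p = 1 := by
  have e1 := mul_pow_p hn hY hs hx
  have e2 := mul_pow_eq_qProd x s p
  rw [e1] at e2
  exact mul_eq_right.1 e2.symm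

/-- the case where `K Y i` is abelian and `K Y (i + p - 1) = ⊥` -/
theorem mc4_upper_core (hn : 4 ≤ n) (hY : IsMC p n Y) {s : Y} (hs : IsUniform n Y s) {i : ℕ}
    (hi : 2 ≤ i) (hab : n ≤ 2 * i + 1) (htop : n ≤ i + p - 1)
    (hexp : ∀ b ∈ K Y (i + 1), b ^ p = 1) {x : Y} (hx : x ∈ K Y i) : x ^ p = 1 := by
  have hp1 : 1 ≤ p := (Fact.out : p.Prime).one_lt.le
  have e3 := mc4_qProd_eq_one hn hY hs (K_antitone hi hx)
  have hab' := K_abelian (by omega : 3 ≤ n) hY hi hab
  have hic : iterComm x s (p - 1) = 1 := by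
    have h1 := iterComm_mem (Y := Y) (i := i) (by omega) hx s (p - 1)
    rwa [K_eq_bot (by omega) hY (i + (p - 1)) (by omega), Subgroup.mem_bot] at h1
  have e4 := qProd_eq_pow (p := p) (K Y i) (K Y (i + 1)) hab'
    (K_antitone (Nat.le_succ i)) hx (comm_mem_succ (by omega) hx s)
    (fun b hb => K_antitone (Nat.le_succ (i + 1)) (comm_mem_succ (by omega) hb s)) hexp hic
  rw [← e4, e3]

theorem mc4_upper (hn : 4 ≤ n) (hY : IsMC p n Y) (hp : p ≠ 2) {s : Y} (hs : IsUniform n Y s) :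
    ∀ i, 2 ≤ i → p ≤ i + 2 → ∀ x ∈ K Y i, x ^ p ∈ K Y (i + p - 1) := by
  have hp2 : 2 ≤ p := (Fact.out : p.Prime).two_le
  have key : ∀ d : ℕ, ∀ i, n - i ≤ d → 2 ≤ i → p ≤ i + 2 → ∀ x ∈ K Y i, x ^ p ∈ K Y (i + p - 1) := by
    intro d
    induction d with
    | zero =>
      intro i hd hi hip x hx
      rw [K_eq_bot (by omega) hY i (by omega), Subgroup.mem_bot] at hx
      rw [hx, one_pow]
      exact one_mem _
    | succ d ih =>
      intro i hd hi hip x hx
      by_cases hin : n ≤ i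
      · rw [K_eq_bot (by omega) hY i hin, Subgroup.mem_bot] at hx
        rw [hx, one_pow]
        exact one_mem _
      · by_cases hmn : i + p - 1 ≤ n
        · -- work in the quotient by `K Y (i + p - 1)`
          have hm4 : 4 ≤ i + p - 1 := by omega
          have hZ := isMC_quotient (by omega : 3 ≤ n) hY (i + p - 1) (by omega) hmn
          have hsZ := mc4_uniform_quot (m := i + p - 1) hmn hs
          have hexpZ : ∀ b ∈ K (Y ⧸ K Y (i + p - 1)) (i + 1), b ^ p = 1 := by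
            intro b hb
            obtain ⟨a, ha, rfl⟩ := mc4_exists_rep (i + p - 1) (i + 1) hb
            have h1 := ih (i + 1) (by omega) (by omega) (by omega) a ha
            have h2 : a ^ p ∈ K Y (i + p - 1) := K_antitone (by omega) h1
            rw [← map_pow]
            exact (mc4_mk_eq_one_iff (i + p - 1) (a ^ p)).mpr h2
          have h3 := mc4_upper_core hm4 hZ hsZ hi (by omega) le_rfl hexpZ
            (mc4_mk_mem (i + p - 1) i hx)
          rw [← map_pow] at h3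
          exact (mc4_mk_eq_one_iff (i + p - 1) (x ^ p)).mp h3
        · have hexp : ∀ b ∈ K Y (i + 1), b ^ p = 1 := by
            intro b hb
            have h1 := ih (i + 1) (by omega) (by omega) (by omega) b hb
            rwa [K_eq_bot (by omega) hY (i + 1 + p - 1) (by omega), Subgroup.mem_bot] at h1
          have h3 := mc4_upper_core hn hY hs hi (by omega) (by omega) hexp hx
          rw [h3]
          exact one_mem _
  intro i hi hip x hx
  exact key (n - i) i le_rfl hi hip x hx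

/-- iterated commutators with a uniform element go down exactly one step at a time -/
theorem mc4_iterComm_not_mem (hn : 4 ≤ n) (hY : IsMC p n Y) {s : Y} (hs : IsUniform n Y s) {i : ℕ}
    (hi : 2 ≤ i) {x : Y} (hx : x ∈ K Y i) (hx' : x ∉ K Y (i + 1)) :
    ∀ l, i + l + 1 ≤ n → iterComm x s l ∉ K Y (i + l + 1) := by
  intro l
  induction l with
  | zero =>
    intro _
    exact hx'
  | succ l ih =>
    intro hl
    have h1 := ih (by omega)
    have h2 := iterComm_mem (Y := Y) (i := i) (by omega) hx s l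
    have h3 := uniform_comm hn hY hs (i := i + l) (by omega) (by omega) h2 h1
    rw [show i + (l + 1) + 1 = i + l + 2 by omega]
    exact h3

/-- the case where `K Y i` is abelian: the exact value of `x ^ p` -/
theorem mc4_lower_core (hn : 4 ≤ n) (hY : IsMC p n Y) (hp : p ≠ 2) {s : Y} (hs : IsUniform n Y s)
    {i : ℕ} (hi : 2 ≤ i) (hab : n ≤ 2 * i + 1) (hexp : ∀ b ∈ K Y (i + 1), b ^ p = 1) {x : Y}
    (hx : x ∈ K Y i) : x ^ p * iterComm x s (p - 1) = 1 := by
  have e3 := mc4_qProd_eq_one hn hY hs (K_antitone hi hx)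
  have hab' := K_abelian (by omega : 3 ≤ n) hY hi hab
  have e4 := mc4_qProd_odd (p := p) hp (K Y i) (K Y (i + 1)) hab'
    (K_antitone (Nat.le_succ i)) hx (comm_mem_succ (by omega) hx s)
    (fun b hb => K_antitone (Nat.le_succ (i + 1)) (comm_mem_succ (by omega) hb s)) hexp
  rw [← e4, e3]

/-- the congruence behind `mc4_lower`: `x ^ p ≡ (iterComm x s (p-1))⁻¹` modulo `K Y (i + p)` -/
theorem mc4_pow_mul_iterComm_mem (hn : 4 ≤ n) (hY : IsMC p n Y) (hp : p ≠ 2) {s : Y}
    (hs : IsUniform n Y s) {i : ℕ} (hi : 2 ≤ i) (hip : p ≤ i + 1) (hin : i + p ≤ n) {x : Y}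
    (hx : x ∈ K Y i) : x ^ p * iterComm x s (p - 1) ∈ K Y (i + p) := by
  have hp2 : 2 ≤ p := (Fact.out : p.Prime).two_le
  have hZ := isMC_quotient (by omega : 3 ≤ n) hY (i + p) (by omega) hin
  have hsZ := mc4_uniform_quot (m := i + p) hin hs
  have hexpZ : ∀ b ∈ K (Y ⧸ K Y (i + p)) (i + 1), b ^ p = 1 := by
    intro b hb
    obtain ⟨a, ha, rfl⟩ := mc4_exists_rep (i + p) (i + 1) hb
    have h1 := mc4_upper hn hY hp hs (i + 1) (by omega) (by omega) a ha
    have h2 : a ^ p ∈ K Y (i + p) := K_antitone (by omega) h1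
    rw [← map_pow]
    exact (mc4_mk_eq_one_iff (i + p) (a ^ p)).mpr h2
  have h3 := mc4_lower_core (by omega : 4 ≤ i + p) hZ hp hsZ hi (by omega) hexpZ
    (mc4_mk_mem (i + p) i hx)
  rw [← mc4_map_iterComm, ← map_pow, ← map_mul] at h3
  exact (mc4_mk_eq_one_iff (i + p) _).mp h3

theorem mc4_lower (hn : 4 ≤ n) (hY : IsMC p n Y) (hp : p ≠ 2) {s : Y} (hs : IsUniform n Y s)
    {i : ℕ} (hi : 2 ≤ i) (hip : p ≤ i + 1) (hin : i + p ≤ n) {x : Y} (hx : x ∈ K Y i)
    (hx' : x ∉ K Y (i + 1)) : x ^ p ∉ K Y (i + p) := by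
  have hp2 : 2 ≤ p := (Fact.out : p.Prime).two_le
  intro hc
  have h1 := mc4_pow_mul_iterComm_mem hn hY hp hs hi hip hin hx
  have h2 : iterComm x s (p - 1) ∈ K Y (i + p) := by
    have h3 := mul_mem (inv_mem hc) h1
    rwa [inv_mul_cancel_left] at h3
  have h4 := mc4_iterComm_not_mem hn hY hs hi hx hx' (p - 1) (by omega)
  rw [show i + (p - 1) + 1 = i + p by omega] at h4
  exact h4 h2

end Cfsg.Agent.Helper21.MC
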