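import Mathlib
import Cfsg.Agent.Lib.MC.MCDefs
import Cfsg.Agent.Lib.MC.MCK
import Cfsg.Agent.Lib.MC.MCCard
import Cfsg.Agent.Lib.MC.MCTwo
import Cfsg.Agent.Lib.Helper18.ChainCount

/-!
# S4144 / S5238 block (B): the counting step.
From the power-shift statements (PS) (upper/lower, levels `j ≥ 2` and level `1` = the two-step centralizer `M_2`), every
subgroup `H` of a group of maximal class of order `p^n`, `n ≥ p + 2`, satisfies `|H : ℧₁(H)| ≤ p^p`.
Chain `C 0 = ⊤ > C 1 = M_2 > C j = K Y j` (`j ≥ 2`), then `Cfsg.Agent.Helper18.ChainCount.chain_count`.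
-/

set_option autoImplicit false

namespace Cfsg.Agent.Helper21.MC

open scoped commutatorElement

variable {Y : Type*} [Group Y] [Finite Y] {p : ℕ} [Fact p.Prime] {n : ℕ}

/-- the chain `⊤, M, K 2, K 3, ...` -/
def mc4Chain (M : Subgroup Y) : ℕ → Subgroup Y
  | 0 => ⊤
  | 1 => M
  | (j + 2) => K Y (j + 2)

theorem mc4Chain_ge_two (M : Subgroup Y) (j : ℕ) (hj : 2 ≤ j) : mc4Chain M j = K Y j := by
  obtain ⟨k, rfl⟩ : ∃ k, j = k + 2 := ⟨j - 2, by omega⟩
  rfl

theorem mc4_count (hn : 4 ≤ n) (hY : IsMC p n Y) (hnp : p + 2 ≤ n)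
    (hU : ∀ j, 2 ≤ j → ∀ x ∈ K Y j, x ^ p ∈ K Y (j + p - 1))
    (hL : ∀ j, 2 ≤ j → j + p ≤ n → ∀ x ∈ K Y j, x ∉ K Y (j + 1) → x ^ p ∉ K Y (j + p))
    (hU1 : ∀ x, InM Y 2 x → x ^ p ∈ K Y p)
    (hL1 : ∀ x, InM Y 2 x → x ∉ K Y 2 → x ^ p ∉ K Y (p + 1))
    (H : Subgroup Y) :
    (Subgroup.closure {y : Y | ∃ h ∈ H, y = h ^ p}).relIndex H ≤ p ^ p := by
  have hpp : p.Prime := Fact.out
  have hp2 : 2 ≤ p := hpp.two_le
  have hG : IsPGroup p Y := isPGroup_of_isMC hY
  obtain ⟨M, hM, hMidx, hM2⟩ := exists_M (by omega : 3 ≤ n) hY (i := 2) le_rfl (by omega)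
  set B := Subgroup.closure {y : Y | ∃ h ∈ H, y = h ^ p} with hB
  have hBH : B ≤ H := by
    rw [hB, Subgroup.closure_le]
    rintro _ ⟨h, hh, rfl⟩
    exact pow_mem hh p
  have hcardY : Nat.card Y = p ^ n := hY.1
  have hcardM : Nat.card M = p ^ (n - 1) := by
    have h := Subgroup.card_mul_index M
    rw [hMidx, hcardY] at h
    have e : p ^ n = p ^ (n - 1) * p := by rw [← pow_succ]; congr 1; omega
    rw [e] at h
    exact Nat.eq_of_mul_eq_mul_right hpp.pos h
  have hcardC : ∀ i, i ≤ n → Nat.card (mc4Chain M i) = p ^ (n - i) := by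
    intro i hi
    match i with
    | 0 => simpa [mc4Chain] using hcardY
    | 1 => simpa [mc4Chain] using hcardM
    | (j + 2) =>
      show Nat.card (K Y (j + 2)) = _
      exact card_K (by omega) hY (j + 2) (by omega) hi
  have hanti : Antitone (mc4Chain M) := by
    apply antitone_nat_of_succ_le
    intro i
    match i with
    | 0 => exact le_top
    | 1 => exact hM2
    | (j + 2) => exact K_antitone (by omega)
  have hcount := Cfsg.Agent.Helper18.ChainCount.chain_count hG n (mc4Chain M) hanti rfl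
    (by rw [mc4Chain_ge_two M n (by omega)]; exact K_eq_bot (by omega) hY n le_rfl)
    (by
      intro i hi
      rw [hcardC i hi.le, hcardC (i + 1) hi, ← pow_succ']
      apply le_of_eq
      congr 1
      omega)
    (by omega) H B
    (by
      intro i hi1 hip h hh hhC hhD
      refine ⟨h ^ p, Subgroup.subset_closure ⟨h, hh, rfl⟩, ?_, ?_⟩
      · rw [mc4Chain_ge_two M (i + p - 1) (by omega)]
        rcases Nat.lt_or_ge i 2 with h1 | h2
        · have hi' : i = 1 := by omega
          subst hi'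
          have : 1 + p - 1 = p := by omega
          rw [this]
          exact hU1 h ((hM h).1 hhC)
        · rw [mc4Chain_ge_two M i h2] at hhC
          exact hU i h2 h hhC
      · rw [mc4Chain_ge_two M (i + p) (by omega)]
        rcases Nat.lt_or_ge i 2 with h1 | h2
        · have hi' : i = 1 := by omega
          subst hi'
          rw [mc4Chain_ge_two M (1 + 1) (by omega)] at hhD
          rw [add_comm]
          exact hL1 h ((hM h).1 hhC) hhD
        · rw [mc4Chain_ge_two M i h2] at hhC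
          rw [mc4Chain_ge_two M (i + 1) (by omega)] at hhD
          exact hL i h2 hip h hhC hhD)
    (by
      rw [hcardC (n - p + 1) (by omega)]
      apply le_of_eq
      congr 1
      omega)
  exact Cfsg.Agent.Helper18.ChainCount.relIndex_le_of_card_le H B hBH hcount

end Cfsg.Agent.Helper21.MC
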