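import Mathlib
import Cfsg.Agent.Lib.MC.MCDefs
import Cfsg.Agent.Lib.MC.MCK
import Cfsg.Agent.Lib.MC.MCCard
import Cfsg.Agent.Lib.MC.MCFrat
import Cfsg.Agent.Lib.MC.MCTwo
import Cfsg.Agent.Lib.MC.MCAllEq
import Cfsg.Agent.Lib.MC.MCUnif
import Cfsg.Agent.Lib.MC.MCExp
import Cfsg.Agent.Lib.MC.MCQuot
import Cfsg.Agent.Lib.MC4.MC4DeepA
import Cfsg.Agent.Lib.MC4.MC4DeepB

/-!
# MC4 deep block, part C (helper5): all two-step centralizers `M_2, ..., M_{n-3}` coincide, for EVERY `n` (`p` odd)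

Induction on `n` (helper22's argument).  For `n < 2p + 3` this is `M_all_eq`.  For `n ≥ 2p + 3` pass to
`Z = Y ⧸ K Y (n-1)` (maximal class of order `p ^ (n-1)`), where the statement holds by induction, so
`M_2 = ... = M_{n-4}` in `Y`; an element `s` outside `M_2 ∪ M_{n-3}` is uniform in `Z`; with `j = n - p - 2` the
subgroup `K Z j` is abelian, `e ∈ K Z j \ K Z (j+1)` has `e ^ p ∈ K Z (n-3) \ K Z (n-2)` (`mc4_upper`, `mc4_lower`),
and if `g` centralizes `K Z j / K Z (j+2)` then `g e g⁻¹ = c e` with `c ∈ K Z (j+2)`, `c ^ p = 1`, so `g` commutes with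
`e ^ p`: `M_j ≤ M_{n-3}`, hence equality (both of index `p`).

* `mc4_all_eq`, `mc4_exists_uniform`, `mc4_comm_K1`.
-/

set_option autoImplicit false

namespace Cfsg.Agent.Helper21.MC

open scoped commutatorElement

universe u

section step

variable {Z : Type*} [Group Z] [Finite Z] {p : ℕ} [Fact p.Prime]

/-- the key step, in a group `Z` of maximal class of order `p ^ (j + p + 1)` with `p + 1 ≤ j` -/
theorem mc4_step {j : ℕ} (hZ : IsMC p (j + p + 1) Z) (hp : p ≠ 2) (hjp : p + 1 ≤ j) {s : Z}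
    (hs : IsUniform (j + p + 1) Z s) (g : Z) (hg : InM Z j g) : InM Z (j + p - 1) g := by
  have hp2 : 2 ≤ p := (Fact.out : p.Prime).two_le
  have hn4 : 4 ≤ j + p + 1 := by omega
  have hn3 : 3 ≤ j + p + 1 := by omega
  obtain ⟨e, he, he'⟩ := SetLike.exists_of_lt (K_succ_lt hn3 hZ j (by omega) (by omega))
  have hf : e ^ p ∈ K Z (j + p - 1) := mc4_upper hn4 hZ hp hs j (by omega) (by omega) e he
  have hf' : e ^ p ∉ K Z (j + p - 1 + 1) := by
    rw [show j + p - 1 + 1 = j + p by omega]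
    exact mc4_lower hn4 hZ hp hs (by omega) (by omega) (by omega) he he'
  rw [inM_iff_gen hn3 hZ (i := j + p - 1) (by omega) (by omega) hf hf' g]
  -- `g` commutes with `e ^ p`
  have hab := K_abelian hn3 hZ (k := j) (by omega) (by omega)
  have hc : ⁅g, e⁆ ∈ K Z (j + 2) := by
    have h1 := hg e he
    have h2 : ⁅g, e⁆ = ⁅e, g⁆⁻¹ := (commutatorElement_inv e g).symm
    rw [h2]
    exact inv_mem h1
  have hcj : ⁅g, e⁆ ∈ K Z j := K_antitone (by omega) hc
  have hcp : ⁅g, e⁆ ^ p = 1 := by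
    have h1 := mc4_upper hn4 hZ hp hs (j + 2) (by omega) (by omega) _ hc
    rwa [K_eq_bot hn3 hZ (j + 2 + p - 1) (by omega), Subgroup.mem_bot] at h1
  have hconj : g * e * g⁻¹ = ⁅g, e⁆ * e := by
    rw [commutatorElement_def]
    group
  have hpow : g * e ^ p * g⁻¹ = e ^ p := by
    rw [← conj_pow, hconj, (show Commute ⁅g, e⁆ e from hab _ hcj _ he).mul_pow, hcp, one_mul]
  have h1 : ⁅e ^ p, g⁆ = 1 := by
    rw [commutatorElement_def]
    calc e ^ p * g * (e ^ p)⁻¹ * g⁻¹ = e ^ p * (g * e ^ p * g⁻¹)⁻¹ := by group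
      _ = 1 := by rw [hpow, mul_inv_cancel]
  rw [h1]
  exact one_mem _

end step

theorem mc4_all_eq_aux {p : ℕ} [Fact p.Prime] (hp : p ≠ 2) (n : ℕ) :
    3 ≤ n → ∀ (Y : Type u) [Group Y] [Finite Y], IsMC p n Y →
      ∀ i, 2 ≤ i → i + 3 ≤ n → ∀ g : Y, InM Y i g ↔ InM Y 2 g := by
  have hp2 : 2 ≤ p := (Fact.out : p.Prime).two_le
  induction n using Nat.strong_induction_on with
  | _ n ih =>
    intro hn Y _ _ hY
    rcases Nat.lt_or_ge n (2 * p + 3) with hlt | hge
    · exact M_all_eq hn hY hp hlt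
    · -- the quotient of order `p ^ (n - 1)`
      have hZ := isMC_quotient hn hY (n - 1) (by omega) (by omega)
      have ihZ := ih (n - 1) (by omega) (by omega) (Y ⧸ K Y (n - 1)) hZ
      -- the levels `i ≤ n - 4`
      have hlow : ∀ i, 2 ≤ i → i + 4 ≤ n → ∀ g : Y, InM Y i g ↔ InM Y 2 g := by
        intro i hi hin g
        rw [← mc4_inM_quot_iff (n - 1) i (by omega) g, ← mc4_inM_quot_iff (n - 1) 2 (by omega) g]
        exact ihZ i hi (by omega) _
      -- the top level `n - 3`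
      obtain ⟨H2, hH2, hi2, -⟩ := exists_M (p := p) (n := n) hn hY (i := 2) le_rfl (by omega)
      obtain ⟨H3, hH3, hi3, -⟩ := exists_M (p := p) (n := n) hn hY (i := n - 3) (by omega) (by omega)
      obtain ⟨s, hs2, hs3⟩ := exists_not_mem_two H2 H3 hi2 hi3
      have hsZ : IsUniform (n - 1) (Y ⧸ K Y (n - 1)) (QuotientGroup.mk' (K Y (n - 1)) s) := by
        intro k hk hkn hc
        have h1 : InM Y k s := mc4_inM_of_quot (n - 1) k hkn s hc
        by_cases hk4 : k + 4 ≤ n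
        · exact hs2 ((hH2 s).mpr ((hlow k hk hk4 s).mp h1))
        · have hk3 : k = n - 3 := by omega
          subst hk3
          exact hs3 ((hH3 s).mpr h1)
      have hle : H2 ≤ H3 := by
        intro g hg
        have h1 : InM Y 2 g := (hH2 g).mp hg
        have h2 : InM Y (n - p - 2) g := (hlow (n - p - 2) (by omega) (by omega) g).mpr h1
        have h3 := mc4_inM_quot_of (n - 1) (n - p - 2) g h2
        have hN : n - 1 = (n - p - 2) + p + 1 := by omega
        have hZ' : IsMC p ((n - p - 2) + p + 1) (Y ⧸ K Y (n - 1)) := by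
          rw [← hN]
          exact hZ
        have hsZ' : IsUniform ((n - p - 2) + p + 1) (Y ⧸ K Y (n - 1))
            (QuotientGroup.mk' (K Y (n - 1)) s) := by
          rw [← hN]
          exact hsZ
        have h4 := mc4_step hZ' hp (by omega) hsZ' _ h3
        rw [show n - p - 2 + p - 1 = n - 3 by omega] at h4
        exact (hH3 g).mpr (mc4_inM_of_quot (n - 1) (n - 3) (by omega) g h4)
      have heq : H2 = H3 := by
        by_contra hne
        obtain ⟨x, hx2, hx3⟩ := exists_mem_not_mem (p := p) H2 H3 hi2 hi3 hne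
        exact hx3 (hle hx2)
      intro i hi hin g
      by_cases hi4 : i + 4 ≤ n
      · exact hlow i hi hi4 g
      · have hi3' : i = n - 3 := by omega
        subst hi3'
        rw [← hH3 g, ← hH2 g, heq]

variable {Y : Type*} [Group Y] [Finite Y] {p : ℕ} [Fact p.Prime] {n : ℕ}

/-- all the two-step centralizers `M_i`, `2 ≤ i ≤ n - 3`, coincide (`p` odd, every `n`) -/
theorem mc4_all_eq (hn : 3 ≤ n) (hY : IsMC p n Y) (hp : p ≠ 2) :
    ∀ i, 2 ≤ i → i + 3 ≤ n → ∀ g, InM Y i g ↔ InM Y 2 g :=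
  mc4_all_eq_aux hp n hn Y hY

/-- uniform elements exist (`p` odd, every `n ≥ 4`) -/
theorem mc4_exists_uniform (hn : 4 ≤ n) (hY : IsMC p n Y) (hp : p ≠ 2) :
    ∃ s : Y, IsUniform n Y s := by
  obtain ⟨H₁, hH₁, hi₁, -⟩ := exists_M (i := 2) (by omega : 3 ≤ n) hY le_rfl (by omega)
  obtain ⟨H₂, hH₂, hi₂, -⟩ := exists_M (i := n - 2) (by omega : 3 ≤ n) hY (by omega) (by omega)
  obtain ⟨s, hs₁, hs₂⟩ := exists_not_mem_two H₁ H₂ hi₁ hi₂
  refine ⟨s, ?_⟩
  intro i hi hin
  by_cases h3 : i + 3 ≤ n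
  · intro hc
    apply hs₁
    rw [hH₁]
    exact (mc4_all_eq (by omega : 3 ≤ n) hY hp i hi h3 s).mp hc
  · have hieq : i = n - 2 := by omega
    subst hieq
    intro hc
    exact hs₂ ((hH₂ s).mpr hc)

/-- an element is uniform iff it lies outside `M_2` and `M_{n-2}` -/
theorem mc4_uniform_iff (hn : 4 ≤ n) (hY : IsMC p n Y) (hp : p ≠ 2) (s : Y) :
    IsUniform n Y s ↔ ¬ InM Y 2 s ∧ ¬ InM Y (n - 2) s := by
  constructor
  · intro hs
    exact ⟨hs 2 le_rfl (by omega), hs (n - 2) (by omega) (by omega)⟩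
  · rintro ⟨h2, h3⟩ i hi hin hc
    by_cases h : i + 3 ≤ n
    · exact h2 ((mc4_all_eq (by omega : 3 ≤ n) hY hp i hi h s).mp hc)
    · have hieq : i = n - 2 := by omega
      subst hieq
      exact h3 hc

/-- degree of commutativity: `M_2` centralizes `K_i / K_{i+2}` for `2 ≤ i ≤ n - 3` -/
theorem mc4_comm_K1 (hn : 3 ≤ n) (hY : IsMC p n Y) (hp : p ≠ 2) {g : Y} (hg : InM Y 2 g) {i : ℕ}
    (hi : 2 ≤ i) (hin : i + 3 ≤ n) {a : Y} (ha : a ∈ K Y i) : ⁅a, g⁆ ∈ K Y (i + 2) :=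
  (mc4_all_eq hn hY hp i hi hin g).mpr hg a ha

end Cfsg.Agent.Helper21.MC
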