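import Mathlib
import Cfsg.Agent.Lib.MC.MCDefs
import Cfsg.Agent.Lib.MC.MCK
import Cfsg.Agent.Lib.MC.MCCong
import Cfsg.Agent.Lib.MC.MCBil
import Cfsg.Agent.Lib.MC.MCCard
import Cfsg.Agent.Lib.MC.MCGen
import Cfsg.Agent.Lib.MC.MCTwo
import Cfsg.Agent.Lib.MC.MCFrat
import Cfsg.Agent.Lib.Helper21.ThreeSubgroups
import Cfsg.Agent.Lib.MC4.MC4ECNM

/-!
# PIECE MC4E-DC: positive degree of commutativity (medium) — block (E) of S4144/S5238, design helper22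

`Y` of maximal class of order `p ^ n`, and ALL two-step centralizers `M_i`, `2 ≤ i ≤ n-3`, coincide with `M_2`
(hypothesis `hall`; it is helper5's `mc4_all_eq`, taken here as a hypothesis so that this file does not depend on
his block).  Then `⁅K a, K b⁆ ≤ K (a+b+1)` for `a, b ≥ 2`, `a + b + 2 ≤ n`.

Recipe.  Let `H` be the subgroup of `exists_M` at `i = 2` (`g ∈ H ↔ InM Y 2 g`, index `p`, `K 2 ≤ H`).
* `mc4edc_comm_H`: `⁅K a, H⁆ ≤ K (a+2)` for `2 ≤ a`, `a + 3 ≤ n` (`Subgroup.commutator_le`, `hall`, definition of `InM`).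
* base `b = 2` (`a + 4 ≤ n`): three subgroups (`Cfsg.Agent.Helper21.three_subgroups_normal`, `N = K (a+3)`, with
  `(A, B, C) = (H, ⊤, K a)`: `⁅⁅⊤, K a⁆, H⁆ = ⁅K (a+1), H⁆ ≤ K (a+3)` (note `Subgroup.commutator_comm`, `K_succ`) and
  `⁅⁅K a, H⁆, ⊤⁆ ≤ ⁅K (a+2), ⊤⁆ = K (a+3)`) give `⁅⁅H, ⊤⁆, K a⁆ ≤ K (a+3)`.  Pick `x ∈ H`, `x ∉ K 2` (exists as
  `K 2 < H`: indices `p ^ 2 ≠ p`, `index_K_two`) and `s ∉ H` (index `p ≠ 1`); `e := ⁅x, s⁆ ∈ ⁅H, ⊤⁆`, `e ∈ K 2`,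
  `e ∉ K 3` (`mc4e_comm_not_mem` gives `⁅s, x⁆ ∉ K 3`, and `⁅x, s⁆ = ⁅s, x⁆⁻¹`).  For `a' ∈ K a`, `b' ∈ K 2`:
  `b' ≡ e ^ r` mod `K 3` (`exists_pow_cong` with `i = 2`), so `⁅a', b'⁆ ≡ ⁅a', e ^ r⁆ ≡ ⁅a', e⁆ ^ r` mod `K (a+3)`
  (`comm_cong_right`, `comm_pow_right_cong` with `i = a`, `j = 2`; `Cong Y (a+2)` is congruence mod `K (a+3)`),
  and `⁅a', e⁆ = ⁅e, a'⁆⁻¹ ∈ K (a+3)`.
* step `b → b+1`: `K (b+1) = ⁅K b, ⊤⁆` (`K_succ`); three subgroups with `(A, B, C) = (K b, ⊤, K a)`, `N = K (a+b+2)`: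
  `⁅⁅⊤, K a⁆, K b⁆ = ⁅K (a+1), K b⁆ ≤ K (a+b+2)` (induction hypothesis for `(a+1, b)`) and
  `⁅⁅K a, K b⁆, ⊤⁆ ≤ ⁅K (a+b+1), ⊤⁆ = K (a+b+2)` (induction hypothesis for `(a, b)`).
Overwrite the `sorry`; keep the statement; auxiliary lemmas prefixed `mc4edc_`.
-/

set_option autoImplicit false

namespace Cfsg.Agent.Helper21.MC

open scoped commutatorElement

variable {Y : Type*} [Group Y] [Finite Y] {p : ℕ} [Fact p.Prime] {n : ℕ}

omit [Finite Y] in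
/-- `⁅K a, H⁆ ≤ K (a+2)` when all two-step centralizers coincide with `H = M_2` -/
theorem mc4edc_comm_H (hall : ∀ i, 2 ≤ i → i + 3 ≤ n → ∀ g : Y, InM Y i g ↔ InM Y 2 g)
    (H : Subgroup Y) (hH : ∀ g, g ∈ H ↔ InM Y 2 g) (a : ℕ) (ha : 2 ≤ a) (han : a + 3 ≤ n) :
    ⁅K Y a, H⁆ ≤ K Y (a + 2) := by
  rw [Subgroup.commutator_le]
  intro x hx g hg
  exact (hall a ha han g).mpr ((hH g).mp hg) x hx

/-- the base case `b = 2` -/
theorem mc4edc_base (hn : 4 ≤ n) (hY : IsMC p n Y)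
    (hall : ∀ i, 2 ≤ i → i + 3 ≤ n → ∀ g : Y, InM Y i g ↔ InM Y 2 g)
    (a : ℕ) (ha : 2 ≤ a) (han : a + 4 ≤ n) : ⁅K Y a, K Y 2⁆ ≤ K Y (a + 3) := by
  have hn3 : 3 ≤ n := by omega
  have hp : p.Prime := Fact.out
  obtain ⟨H, hH, hHi, hKH⟩ := exists_M hn3 hY (i := 2) le_rfl (by omega)
  -- three subgroups
  have h1 : ⁅⁅(⊤ : Subgroup Y), K Y a⁆, H⁆ ≤ K Y (a + 3) := by
    rw [Subgroup.commutator_comm (⊤ : Subgroup Y) (K Y a), ← K_succ a (by omega)]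
    exact mc4edc_comm_H hall H hH (a + 1) (by omega) (by omega)
  have h2 : ⁅⁅K Y a, H⁆, (⊤ : Subgroup Y)⁆ ≤ K Y (a + 3) := by
    have h3 : ⁅⁅K Y a, H⁆, (⊤ : Subgroup Y)⁆ ≤ ⁅K Y (a + 2), (⊤ : Subgroup Y)⁆ :=
      Subgroup.commutator_mono (mc4edc_comm_H hall H hH a ha (by omega)) le_rfl
    rw [← K_succ (a + 2) (by omega)] at h3
    exact h3
  have h3 : ⁅⁅H, (⊤ : Subgroup Y)⁆, K Y a⁆ ≤ K Y (a + 3) :=
    Cfsg.Agent.Helper21.three_subgroups_normal h1 h2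
  -- the elements `x`, `s`
  have hx : ∃ x, x ∈ H ∧ x ∉ K Y 2 := by
    by_contra hcon
    have hle : H ≤ K Y 2 := fun x hx => by
      by_contra h
      exact hcon ⟨x, hx, h⟩
    have heq : H = K Y 2 := le_antisymm hle hKH
    have hi2 := index_K_two hn3 hY
    rw [← heq, hHi] at hi2
    have h1p : 1 < p := hp.one_lt
    have : p * 1 = p * p := by rw [mul_one, ← pow_two]; exact hi2
    have := Nat.eq_of_mul_eq_mul_left hp.pos this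
    omega
  have hs : ∃ s, s ∉ H := by
    by_contra hcon
    have htop : H = ⊤ := (Subgroup.eq_top_iff' H).mpr fun s => by
      by_contra h
      exact hcon ⟨s, h⟩
    rw [htop, Subgroup.index_top] at hHi
    exact hp.one_lt.ne hHi
  obtain ⟨x, hxH, hxK⟩ := hx
  obtain ⟨s, hsH⟩ := hs
  have hne : ⁅s, x⁆ ∉ K Y 3 := mc4e_comm_not_mem hn3 hY H hKH hHi hxH hxK hsH
  set e : Y := ⁅x, s⁆ with he
  have heHT : e ∈ ⁅H, (⊤ : Subgroup Y)⁆ := Subgroup.commutator_mem_commutator hxH (Subgroup.mem_top s)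
  have hx1 : x ∈ K Y 1 := by rw [K_one]; exact Subgroup.mem_top x
  have he2 : e ∈ K Y 2 := comm_mem_succ le_rfl hx1 s
  have he3 : e ∉ K Y 3 := by
    intro hmem
    apply hne
    have : ⁅s, x⁆ = e⁻¹ := by rw [he]; exact comm_swap x s
    rw [this]
    exact (K Y 3).inv_mem hmem
  rw [Subgroup.commutator_le]
  intro a' ha' b' hb'
  obtain ⟨r, hr⟩ := exists_pow_cong hn3 hY (i := 2) le_rfl (by omega) he2 he3 hb'
  have c1 : Cong Y (a + 2) ⁅a', b'⁆ ⁅a', e ^ r⁆ := comm_cong_right (by omega) (by norm_num) ha' hb' hr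
  have c2 : Cong Y (a + 2) ⁅a', e ^ r⁆ (⁅a', e⁆ ^ r) := comm_pow_right_cong (by omega) (by norm_num) ha' he2 r
  have c3 : Cong Y (a + 2) ⁅a', b'⁆ (⁅a', e⁆ ^ r) := c1.trans c2
  have hea : ⁅e, a'⁆ ∈ K Y (a + 3) := h3 (Subgroup.commutator_mem_commutator heHT ha')
  have hae : ⁅a', e⁆ ∈ K Y (a + 3) := by
    rw [comm_swap e a']
    exact (K Y (a + 3)).inv_mem hea
  exact c3.symm.mem_succ (pow_mem hae r)

theorem mc4e_dc (hn : 4 ≤ n) (hY : IsMC p n Y)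
    (hall : ∀ i, 2 ≤ i → i + 3 ≤ n → ∀ g : Y, InM Y i g ↔ InM Y 2 g) :
    ∀ (b a : ℕ), 2 ≤ a → 2 ≤ b → a + b + 2 ≤ n → ⁅K Y a, K Y b⁆ ≤ K Y (a + b + 1) := by
  have hn3 : 3 ≤ n := by omega
  intro b
  induction b with
  | zero => intro a _ hb _; omega
  | succ b ih =>
    intro a ha hb hab
    rcases Nat.lt_or_ge b 2 with hb1 | hb2
    · have hb' : b = 1 := by omega
      subst hb'
      have := mc4edc_base hn hY hall a ha (by omega)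
      exact this
    · -- step
      have ih1 : ⁅K Y (a + 1), K Y b⁆ ≤ K Y (a + 1 + b + 1) := ih (a + 1) (by omega) hb2 (by omega)
      have ih2 : ⁅K Y a, K Y b⁆ ≤ K Y (a + b + 1) := ih a ha hb2 (by omega)
      have h1 : ⁅⁅(⊤ : Subgroup Y), K Y a⁆, K Y b⁆ ≤ K Y (a + b + 2) := by
        rw [Subgroup.commutator_comm (⊤ : Subgroup Y) (K Y a), ← K_succ a (by omega)]
        have e1 : a + 1 + b + 1 = a + b + 2 := by omega
        rw [e1] at ih1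
        exact ih1
      have h2 : ⁅⁅K Y a, K Y b⁆, (⊤ : Subgroup Y)⁆ ≤ K Y (a + b + 2) := by
        have h3 : ⁅⁅K Y a, K Y b⁆, (⊤ : Subgroup Y)⁆ ≤ ⁅K Y (a + b + 1), (⊤ : Subgroup Y)⁆ :=
          Subgroup.commutator_mono ih2 le_rfl
        rw [← K_succ (a + b + 1) (by omega)] at h3
        exact h3
      have h3 : ⁅⁅K Y b, (⊤ : Subgroup Y)⁆, K Y a⁆ ≤ K Y (a + b + 2) :=
        Cfsg.Agent.Helper21.three_subgroups_normal h1 h2
      rw [← K_succ b (by omega), Subgroup.commutator_comm] at h3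
      have e2 : a + (b + 1) + 1 = a + b + 2 := by omega
      rw [e2]
      exact h3

end Cfsg.Agent.Helper21.MC
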