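import Mathlib
import Cfsg.Agent.Lib.MC.MCDefs
import Cfsg.Agent.Lib.MC.MCK
import Cfsg.Agent.Lib.MC.MCCard
import Cfsg.Agent.Lib.MC.MCTwo
import Cfsg.Agent.Lib.MC.MCFrat

/-!
# PIECE MC4E-SEL: a uniform element `s` such that `x * s` is uniform too, for `x ∈ M_2` (medium)
(block (E) of S4144/S5238, design helper22; proved by helper4)

`Y` of maximal class of order `p ^ n`, `n ≥ 5`, `p` odd, and all two-step centralizers `M_i`, `2 ≤ i ≤ n-3`, equal
`M_2` (hypothesis `hall`).  Let `H`, `H'` be the subgroups of `exists_M` at `i = 2` and `i = n - 2`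
(`(n - 2) + 2 ≤ n`).  By `hall`, `IsUniform n Y g ↔ g ∉ H ∧ g ∉ H'` (`mc4e_uniform_iff`; for `2 ≤ i`, `i + 2 ≤ n`
either `i + 3 ≤ n`, then `InM Y i g ↔ InM Y 2 g`, or `i = n - 2`).
Given `x ∈ H`: take `s₀ ∉ H`, `s₀ ∉ H'` (`exists_not_mem_two`).  Every `x ^ a * s₀ ∉ H`.
* if `x ∈ H'`: `s := s₀` (`x * s₀ ∉ H'` as `x ∈ H'`, `s₀ ∉ H'`);
* if `x ∉ H'` and `x * s₀ ∉ H'`: `s := s₀`;
* if `x ∉ H'` and `x * s₀ ∈ H'`: `s := x ^ 2 * s₀ = x * (x * s₀) ∉ H'`, and `x * s = x ^ 2 * (x * s₀) ∉ H'` because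
  `x ^ 2 ∉ H'`: otherwise `x = (x ^ 2) ^ ((p+1)/2) * (x ^ p)⁻¹ ∈ H'` (`x ^ p ∈ K 2 ≤ H'` by `pow_p_mem_K_two`, `p` odd).
-/

set_option autoImplicit false

namespace Cfsg.Agent.Helper21.MC

open scoped commutatorElement

variable {Y : Type*} [Group Y] [Finite Y] {p : ℕ} [Fact p.Prime] {n : ℕ}

theorem mc4e_uniform_iff (hn : 5 ≤ n) (hY : IsMC p n Y)
    (hall : ∀ i, 2 ≤ i → i + 3 ≤ n → ∀ g : Y, InM Y i g ↔ InM Y 2 g) (g : Y) :
    IsUniform n Y g ↔ ¬ InM Y 2 g ∧ ¬ InM Y (n - 2) g := by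
  constructor
  · intro h
    exact ⟨h 2 le_rfl (by omega), h (n - 2) (by omega) (by omega)⟩
  · rintro ⟨h1, h2⟩ i hi hin
    rcases Nat.lt_or_ge (i + 2) n with h | h
    · rw [hall i hi (by omega) g]
      exact h1
    · have : i = n - 2 := by omega
      rw [this]
      exact h2

/-- left multiplication by an element of a subgroup does not move an element into it -/
theorem mc4esel_mul_not_mem (H : Subgroup Y) {a s : Y} (ha : a ∈ H) (hs : s ∉ H) : a * s ∉ H := by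
  intro h
  apply hs
  have : s = a⁻¹ * (a * s) := by group
  rw [this]
  exact H.mul_mem (H.inv_mem ha) h

theorem mc4e_exists_uniform_pair (hn : 5 ≤ n) (hY : IsMC p n Y) (hp2 : p ≠ 2)
    (hall : ∀ i, 2 ≤ i → i + 3 ≤ n → ∀ g : Y, InM Y i g ↔ InM Y 2 g) {x : Y} (hx : InM Y 2 x) :
    ∃ s : Y, IsUniform n Y s ∧ IsUniform n Y (x * s) := by
  have hpp : p.Prime := Fact.out
  have hn3 : 3 ≤ n := by omega
  obtain ⟨H, hH, hi, -⟩ := exists_M hn3 hY (i := 2) le_rfl (by omega)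
  obtain ⟨H', hH', hi', hK'⟩ := exists_M hn3 hY (i := n - 2) (by omega) (by omega)
  obtain ⟨s₀, hs₀, hs₀'⟩ := exists_not_mem_two H H' hi hi'
  have hxH : x ∈ H := (hH x).2 hx
  -- uniformity in terms of `H`, `H'`
  have huni : ∀ g : Y, g ∉ H → g ∉ H' → IsUniform n Y g := by
    intro g h1 h2
    rw [mc4e_uniform_iff hn hY hall]
    exact ⟨fun h => h1 ((hH g).2 h), fun h => h2 ((hH' g).2 h)⟩
  by_cases hxH' : x ∈ H'
  · exact ⟨s₀, huni s₀ hs₀ hs₀', huni _ (mc4esel_mul_not_mem H hxH hs₀) (mc4esel_mul_not_mem H' hxH' hs₀')⟩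
  · by_cases hxs : x * s₀ ∈ H'
    · -- `s := x ^ 2 * s₀`
      have hx2 : x ^ 2 ∉ H' := by
        intro h2
        apply hxH'
        have hodd : p % 2 = 1 := by
          rcases hpp.eq_two_or_odd with h | h
          · exact absurd h hp2
          · exact h
        obtain ⟨k, hk⟩ : ∃ k, p = 2 * k + 1 := ⟨p / 2, by omega⟩
        have hxp : x ^ p ∈ H' := hK' (pow_p_mem_K_two hn3 hY x)
        have h3 : x = ((x ^ 2) ^ k)⁻¹ * x ^ p := by
          rw [hk, ← pow_mul, pow_succ, ← mul_assoc, inv_mul_cancel, one_mul]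
        rw [h3]
        exact H'.mul_mem (H'.inv_mem (H'.pow_mem h2 k)) hxp
      refine ⟨x ^ 2 * s₀, huni _ (mc4esel_mul_not_mem H (H.pow_mem hxH 2) hs₀) ?_,
        huni _ ?_ ?_⟩
      · intro h
        apply hxH'
        have : x = (x ^ 2 * s₀) * (x * s₀)⁻¹ := by group
        rw [this]
        exact H'.mul_mem h (H'.inv_mem hxs)
      · have : x * (x ^ 2 * s₀) = x ^ 3 * s₀ := by group
        rw [this]
        exact mc4esel_mul_not_mem H (H.pow_mem hxH 3) hs₀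
      · intro h
        apply hx2
        have : x ^ 2 = (x * (x ^ 2 * s₀)) * (x * s₀)⁻¹ := by group
        rw [this]
        exact H'.mul_mem h (H'.inv_mem hxs)
    · exact ⟨s₀, huni s₀ hs₀ hs₀', huni _ (mc4esel_mul_not_mem H hxH hs₀) hxs⟩

end Cfsg.Agent.Helper21.MC
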