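import Mathlib
import Cfsg.Agent.Lib.MC.MCDefs
import Cfsg.Agent.Lib.MC.MCK
import Cfsg.Agent.Lib.MC.MCCard
import Cfsg.Agent.Lib.MC.MCUnif
import Cfsg.Agent.Lib.MC.MCUnifB
import Cfsg.Agent.Lib.Helper23.ExactHP

/-!
# Block (E) of the S4144 / S5238 design: the power shift at every level `j ≥ 2` (helper22)

`Y` of maximal class of order `p ^ n`, `s` a uniform element.  For `x ∈ K Y j`, `j ≥ 2`, the exact top term of
Hall--Petrescu (`Cfsg.Agent.Helper23.ExactHP.exact_top`) in the quotient `Y ⧸ K Y (j + p)` with the filtration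
`F i = image of K Y (j + (i - 2))` gives `x ^ p * adIter s x (p - 1) ∈ K Y (j + p)`, provided the `p`-th powers of
`K Y (j + 1)` lie in `K Y (j + p)`.  Downward induction on `j` then gives the upper bound
`x ^ p ∈ K Y (j + p - 1)` for all `j ≥ 2`, and uniformity of `s` gives the lower bound `x ^ p ∉ K Y (j + p)` for
`x ∉ K Y (j + 1)`, `j + p ≤ n`.
-/

set_option autoImplicit false

namespace Cfsg.Agent.Helper21.MC

open scoped commutatorElement
open Cfsg.Agent.Helper23.ExactHP

variable {Y : Type*} [Group Y]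

theorem mc4e_adIter_mem (s : Y) {j : ℕ} (hj : 1 ≤ j) {x : Y} (hx : x ∈ K Y j) (k : ℕ) :
    adIter s x k ∈ K Y (j + k) := by
  induction k with
  | zero => rw [adIter_zero]; exact hx
  | succ k ih =>
    rw [adIter_succ, show j + (k + 1) = j + k + 1 by omega]
    exact comm_mem_succ' (by omega) ih s

theorem mc4e_adIter_map {Z : Type*} [Group Z] (f : Y →* Z) (s x : Y) (k : ℕ) :
    f (adIter s x k) = adIter (f s) (f x) k := by
  induction k with
  | zero => rfl
  | succ k ih => rw [adIter_succ, adIter_succ, map_commutatorElement, ih]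

variable [Finite Y] {p : ℕ} [Fact p.Prime] {n : ℕ}

/-- the iterated commutator with a uniform element goes down exactly one step each time -/
theorem mc4e_adIter_not_mem (hn : 4 ≤ n) (hY : IsMC p n Y) {s : Y} (hs : IsUniform n Y s) {j : ℕ}
    (hj : 2 ≤ j) {x : Y} (hx : x ∈ K Y j) (hx' : x ∉ K Y (j + 1)) (k : ℕ) (hk : j + k + 1 ≤ n) :
    adIter s x k ∉ K Y (j + k + 1) := by
  induction k with
  | zero => rw [adIter_zero]; exact hx'
  | succ k ih =>
    have h1 := ih (by omega)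
    have h2 := mc4e_adIter_mem s (by omega : 1 ≤ j) hx k
    have h3 := uniform_comm hn hY hs (i := j + k) (by omega) (by omega) h2 h1
    rw [adIter_succ, show j + (k + 1) + 1 = j + k + 2 by omega]
    intro h4
    apply h3
    have h5 : ⁅adIter s x k, s⁆ = ⁅s, adIter s x k⁆⁻¹ := (commutatorElement_inv s _).symm
    rw [h5]
    exact inv_mem h4

/-- **Key congruence**: `x ^ p ≡ (adIter s x (p-1))⁻¹` modulo `K (j+p)`. -/
theorem mc4e_pow_adIter (hn : 4 ≤ n) (hY : IsMC p n Y) {s : Y} (hs : IsUniform n Y s) {j : ℕ}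
    (hj : 2 ≤ j) (hU : ∀ z ∈ K Y (j + 1), z ^ p ∈ K Y (j + p)) {x : Y} (hx : x ∈ K Y j) :
    x ^ p * adIter s x (p - 1) ∈ K Y (j + p) := by
  have hp : p.Prime := Fact.out
  set N : Subgroup Y := K Y (j + p) with hN
  let π : Y →* Y ⧸ N := QuotientGroup.mk' N
  let F : ℕ → Subgroup (Y ⧸ N) := fun i => (K Y (j + (i - 2))).map π
  have hF : Antitone F := by
    intro a b hab
    exact Subgroup.map_mono (K_antitone (by omega))
  have hsF : ∀ m, 2 ≤ m → ∀ z ∈ F m, ⁅π s, z⁆ ∈ F (m + 1) := by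
    intro m hm z hz
    obtain ⟨z₀, hz₀, rfl⟩ := hz
    refine ⟨⁅s, z₀⁆, ?_, map_commutatorElement π s z₀⟩
    have := comm_mem_succ' (i := j + (m - 2)) (by omega) hz₀ s
    rwa [show j + (m - 2) + 1 = j + (m + 1 - 2) by omega] at this
  have hc : ∀ a b, ⁅F a, F b⁆ ≤ F (a + b) := by
    intro a b
    show ⁅(K Y (j + (a - 2))).map π, (K Y (j + (b - 2))).map π⁆ ≤ (K Y (j + (a + b - 2))).map π
    rw [← Subgroup.map_commutator]
    refine Subgroup.map_mono ?_
    refine le_trans (K_comm_le _ _ (by omega) (by omega)) (K_antitone (by omega))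
  have hFp : F (p + 2) = ⊥ := by
    show (K Y (j + (p + 2 - 2))).map π = ⊥
    rw [show j + (p + 2 - 2) = j + p by omega, ← hN]
    exact QuotientGroup.map_mk'_self N
  have hM : ∀ z ∈ F 3, z ^ p ∈ (⊥ : Subgroup (Y ⧸ N)) := by
    intro z hz
    obtain ⟨z₀, hz₀, rfl⟩ := hz
    rw [Subgroup.mem_bot, ← map_pow]
    exact (QuotientGroup.eq_one_iff _).2 (hU z₀ (by simpa using hz₀))
  have hxF : π x ∈ F 2 := ⟨x, by simpa using hx, rfl⟩
  have key := exact_top hF (π s) hsF hc hp hFp ⊥ hM hxF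
  rw [Subgroup.mem_bot] at key
  have hx2 : x ∈ K Y 2 := K_antitone hj hx
  have hpow : (x * s) ^ p = s ^ p := mul_pow_p hn hY hs hx2
  have h1 : (π x * π s) ^ p * (π s ^ p)⁻¹ = 1 := by
    rw [← map_mul, ← map_pow, ← map_pow, hpow, mul_inv_cancel]
  rw [mul_assoc ((π x ^ p)⁻¹), h1, mul_one, ← mul_inv_rev, inv_eq_one, ← mc4e_adIter_map,
    ← map_pow, ← map_mul] at key
  exact (QuotientGroup.eq_one_iff _).1 key

/-- **(E1) upper bound**, for a given uniform element. -/
theorem mc4e_upper_of_uniform (hn : 4 ≤ n) (hY : IsMC p n Y) {s : Y} (hs : IsUniform n Y s) :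
    ∀ (d j : ℕ), 2 ≤ j → n ≤ j + d → ∀ x ∈ K Y j, x ^ p ∈ K Y (j + p - 1) := by
  have hp : p.Prime := Fact.out
  intro d
  induction d with
  | zero =>
    intro j _ hjn x hx
    rw [K_eq_bot (by omega) hY j (by omega), Subgroup.mem_bot] at hx
    rw [hx, one_pow]
    exact one_mem _
  | succ d ih =>
    intro j hj hjn x hx
    have hU : ∀ z ∈ K Y (j + 1), z ^ p ∈ K Y (j + p) := by
      intro z hz
      have := ih (j + 1) (by omega) (by omega) z hz
      rwa [show j + 1 + p - 1 = j + p by omega] at this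
    have h1 := mc4e_pow_adIter hn hY hs hj hU hx
    have h2 : adIter s x (p - 1) ∈ K Y (j + p - 1) := by
      have := mc4e_adIter_mem s (by omega : 1 ≤ j) hx (p - 1)
      rwa [show j + (p - 1) = j + p - 1 by have := hp.two_le; omega] at this
    have h3 : x ^ p * adIter s x (p - 1) ∈ K Y (j + p - 1) := K_antitone (by omega) h1
    have := mul_mem h3 (inv_mem h2)
    rwa [mul_inv_cancel_right] at this

theorem mc4e_ps_upper_of_uniform (hn : 4 ≤ n) (hY : IsMC p n Y) {s : Y} (hs : IsUniform n Y s)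
    {j : ℕ} (hj : 2 ≤ j) {x : Y} (hx : x ∈ K Y j) : x ^ p ∈ K Y (j + p - 1) :=
  mc4e_upper_of_uniform hn hY hs n j hj (by omega) x hx

/-- **(E2) lower bound**, for a given uniform element. -/
theorem mc4e_ps_lower_of_uniform (hn : 4 ≤ n) (hY : IsMC p n Y) {s : Y} (hs : IsUniform n Y s)
    {j : ℕ} (hj : 2 ≤ j) (hjn : j + p ≤ n) {x : Y} (hx : x ∈ K Y j) (hx' : x ∉ K Y (j + 1)) :
    x ^ p ∉ K Y (j + p) := by
  have hp : p.Prime := Fact.out
  have hp2 := hp.two_le
  have hU : ∀ z ∈ K Y (j + 1), z ^ p ∈ K Y (j + p) := by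
    intro z hz
    have := mc4e_ps_upper_of_uniform hn hY hs (by omega : 2 ≤ j + 1) hz
    rwa [show j + 1 + p - 1 = j + p by omega] at this
  have h1 := mc4e_pow_adIter hn hY hs hj hU hx
  have h2 := mc4e_adIter_not_mem hn hY hs hj hx hx' (p - 1) (by omega)
  rw [show j + (p - 1) + 1 = j + p by omega] at h2
  intro h3
  apply h2
  have := mul_mem (inv_mem h3) h1
  rwa [inv_mul_cancel_left] at this

end Cfsg.Agent.Helper21.MC
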