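import Mathlib
import Cfsg.Agent.Lib.MC.MCTwo
import Cfsg.Agent.Lib.MC.MCFrat
import Cfsg.Agent.Lib.MC4.MC4Shallow
import Cfsg.Agent.Lib.MC4.MC4ECNM
import Cfsg.Agent.Lib.MC4.MC4ESEL
import Cfsg.Agent.Lib.MC4.MC4EDC

/-!
# Block (E) of the S4144 / S5238 design: the power shift at level `1` (helper22)

`Y` of maximal class of order `p ^ n`, `n ≥ p + 2`, all two-step centralizers `M_i` (`2 ≤ i ≤ n - 3`) equal to `M_2 =: H`.
For `x ∈ H` and a uniform `s` such that `x * s` is uniform too, the exact top term of Hall--Petrescu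
(`Cfsg.Agent.Helper23.ExactHP.exact_top`) in `Y ⧸ K Y (p + 1)` with the filtration `F 0 = F 1 = F 2 = image of H`,
`F i = image of K Y (i - 1)` (`i ≥ 3`; a filtration because of the positive degree of commutativity `mc4e_dc`) gives
`x ^ p * adIter s x (p - 1) ∈ K Y (p + 1)`.
-/

set_option autoImplicit false

namespace Cfsg.Agent.Helper21.MC

open scoped commutatorElement
open Cfsg.Agent.Helper23.ExactHP

variable {Y : Type*} [Group Y] [Finite Y] {p : ℕ} [Fact p.Prime] {n : ℕ}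

theorem mc4e_pow_p_mem_top (hn : 4 ≤ n) (hY : IsMC p n Y) {s : Y} (hs : IsUniform n Y s) :
    s ^ p ∈ K Y (n - 1) :=
  mem_of_commute hn hY hs (pow_p_mem_K_two (by omega) hY s)
    ((pow_succ s p).symm.trans (pow_succ' s p))

/-- the auxiliary filtration of `Y` -/
noncomputable def mc4eG (H : Subgroup Y) (i : ℕ) : Subgroup Y := if i ≤ 2 then H else K Y (i - 1)

omit [Finite Y] in
theorem mc4eG_le (H : Subgroup Y) {i : ℕ} (hi : i ≤ 2) : mc4eG H i = H := if_pos hi

omit [Finite Y] in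
theorem mc4eG_gt (H : Subgroup Y) {i : ℕ} (hi : 2 < i) : mc4eG H i = K Y (i - 1) :=
  if_neg (not_le.2 hi)

theorem mc4eG_antitone (H : Subgroup Y) (hK : K Y 2 ≤ H) : Antitone (mc4eG H) := by
  intro a b hab
  by_cases hb : b ≤ 2
  · rw [mc4eG_le H hb, mc4eG_le H (by omega)]
  · rw [mc4eG_gt H (by omega : 2 < b)]
    by_cases ha : a ≤ 2
    · rw [mc4eG_le H ha]
      exact le_trans (K_antitone (by omega)) hK
    · rw [mc4eG_gt H (by omega : 2 < a)]
      exact K_antitone (by omega)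

/-- the commutator condition for the auxiliary filtration, modulo `K (p+1)` -/
theorem mc4eG_comm (hn : 5 ≤ n) (hY : IsMC p n Y) (hnp : p + 2 ≤ n)
    (hall : ∀ i, 2 ≤ i → i + 3 ≤ n → ∀ g : Y, InM Y i g ↔ InM Y 2 g)
    (H : Subgroup Y) (hH : ∀ g, g ∈ H ↔ InM Y 2 g) (hi : H.index = p) (hK : K Y 2 ≤ H) (a b : ℕ) :
    ⁅mc4eG H a, mc4eG H b⁆ ≤ mc4eG H (a + b) ⊔ K Y (p + 1) := by
  have hp : p.Prime := Fact.out
  have hp2 := hp.two_le
  -- `⁅H, K m⁆ ≤ K (m + 2) ⊔ K (p+1)` for `m ≥ 2`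
  have hHK : ∀ m, 2 ≤ m → ⁅H, K Y m⁆ ≤ K Y (m + 2) ⊔ K Y (p + 1) := by
    intro m hm
    by_cases hmn : m + 3 ≤ n
    · refine le_trans ?_ le_sup_left
      rw [Subgroup.commutator_le]
      intro h hh k hk
      have h1 : InM Y m h := (hall m hm hmn h).2 ((hH h).1 hh)
      have h2 := h1 k hk
      rw [comm_swap k h]
      exact inv_mem h2
    · refine le_trans ?_ le_sup_right
      rw [Subgroup.commutator_le]
      intro h _ k hk
      have h1 := comm_mem_succ' (by omega : 1 ≤ m) hk h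
      exact K_antitone (by omega) h1
  by_cases ha : a ≤ 2
  · by_cases hb : b ≤ 2
    · rw [mc4eG_le H ha, mc4eG_le H hb]
      refine le_trans (mc4e_comm_H (by omega) hY H hK hi) (le_trans ?_ le_sup_left)
      by_cases hab : a + b ≤ 2
      · rw [mc4eG_le H hab]
        exact le_trans (K_antitone (by omega)) hK
      · rw [mc4eG_gt H (by omega : 2 < a + b)]
        exact K_antitone (by omega)
    · rw [mc4eG_le H ha, mc4eG_gt H (by omega : 2 < b), mc4eG_gt H (by omega : 2 < a + b)]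
      refine le_trans (hHK (b - 1) (by omega)) (sup_le_sup_right (K_antitone (by omega)) _)
  · by_cases hb : b ≤ 2
    · rw [mc4eG_gt H (by omega : 2 < a), mc4eG_le H hb, mc4eG_gt H (by omega : 2 < a + b),
        Subgroup.commutator_comm]
      refine le_trans (hHK (a - 1) (by omega)) (sup_le_sup_right (K_antitone (by omega)) _)
    · rw [mc4eG_gt H (by omega : 2 < a), mc4eG_gt H (by omega : 2 < b),
        mc4eG_gt H (by omega : 2 < a + b)]
      by_cases habn : (a - 1) + (b - 1) + 2 ≤ n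
      · refine le_trans (mc4e_dc (by omega) hY hall (b - 1) (a - 1) (by omega) (by omega) habn)
          (le_trans (K_antitone (by omega)) le_sup_left)
      · refine le_trans (K_comm_le (a - 1) (b - 1) (by omega) (by omega))
          (le_trans (K_antitone (by omega)) le_sup_right)

/-- **Key congruence at level 1**. -/
theorem mc4e_pow_adIter_one (hn : 5 ≤ n) (hY : IsMC p n Y) (hnp : p + 2 ≤ n)
    (hall : ∀ i, 2 ≤ i → i + 3 ≤ n → ∀ g : Y, InM Y i g ↔ InM Y 2 g)
    {s x : Y} (hs : IsUniform n Y s) (hxs : IsUniform n Y (x * s)) (hx : InM Y 2 x) :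
    x ^ p * adIter s x (p - 1) ∈ K Y (p + 1) := by
  have hp : p.Prime := Fact.out
  have hp2 := hp.two_le
  obtain ⟨H, hH, hi, hK⟩ := exists_M (by omega : 3 ≤ n) hY (i := 2) le_rfl (by omega)
  set N : Subgroup Y := K Y (p + 1) with hN
  let π : Y →* Y ⧸ N := QuotientGroup.mk' N
  let F : ℕ → Subgroup (Y ⧸ N) := fun i => (mc4eG H i).map π
  have hF : Antitone F := fun a b hab => Subgroup.map_mono (mc4eG_antitone H hK hab)
  have hsF : ∀ m, 2 ≤ m → ∀ z ∈ F m, ⁅π s, z⁆ ∈ F (m + 1) := by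
    intro m hm z hz
    obtain ⟨z₀, hz₀, rfl⟩ := hz
    refine ⟨⁅s, z₀⁆, ?_, map_commutatorElement π s z₀⟩
    rw [mc4eG_gt H (by omega : 2 < m + 1)]
    by_cases hm2 : m ≤ 2
    · have h1 : z₀ ∈ K Y 1 := by rw [K_one]; trivial
      have := comm_mem_succ' le_rfl h1 s
      rwa [show m + 1 - 1 = 1 + 1 by omega]
    · rw [mc4eG_gt H (by omega : 2 < m)] at hz₀
      have := comm_mem_succ' (by omega : 1 ≤ m - 1) hz₀ s
      rwa [show m + 1 - 1 = m - 1 + 1 by omega]
  have hmapN : N.map π = ⊥ := QuotientGroup.map_mk'_self N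
  have hc : ∀ a b, ⁅F a, F b⁆ ≤ F (a + b) := by
    intro a b
    show ⁅(mc4eG H a).map π, (mc4eG H b).map π⁆ ≤ (mc4eG H (a + b)).map π
    rw [← Subgroup.map_commutator]
    refine le_trans (Subgroup.map_mono (mc4eG_comm hn hY hnp hall H hH hi hK a b)) ?_
    rw [Subgroup.map_sup, hmapN, sup_bot_eq]
  have hFp : F (p + 2) = ⊥ := by
    show (mc4eG H (p + 2)).map π = ⊥
    rw [mc4eG_gt H (by omega : 2 < p + 2), show p + 2 - 1 = p + 1 by omega]
    exact hmapN
  have hM : ∀ z ∈ F 3, z ^ p ∈ (⊥ : Subgroup (Y ⧸ N)) := by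
    intro z hz
    obtain ⟨z₀, hz₀, rfl⟩ := hz
    rw [mc4eG_gt H (by omega : 2 < 3)] at hz₀
    rw [Subgroup.mem_bot, ← map_pow]
    have h1 := mc4e_ps_upper_of_uniform (by omega : 4 ≤ n) hY hs (j := 2) le_rfl hz₀
    rw [show 2 + p - 1 = p + 1 by omega] at h1
    exact (QuotientGroup.eq_one_iff _).2 h1
  have hxF : π x ∈ F 2 := ⟨x, by rw [mc4eG_le H le_rfl]; exact (hH x).2 hx, rfl⟩
  have key := exact_top hF (π s) hsF hc hp hFp ⊥ hM hxF
  rw [Subgroup.mem_bot] at key
  have htop : K Y (n - 1) ≤ N := K_antitone (by omega)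
  have h1 : π ((x * s) ^ p) = 1 :=
    (QuotientGroup.eq_one_iff _).2 (htop (mc4e_pow_p_mem_top (by omega) hY hxs))
  have h2 : π (s ^ p) = 1 :=
    (QuotientGroup.eq_one_iff _).2 (htop (mc4e_pow_p_mem_top (by omega) hY hs))
  rw [← map_mul, ← map_pow π (x * s), ← map_pow π s, h1, h2, inv_one, mul_one, mul_one,
    ← mul_inv_rev, inv_eq_one, ← mc4e_adIter_map, ← map_pow, ← map_mul] at key
  exact (QuotientGroup.eq_one_iff _).1 key

end Cfsg.Agent.Helper21.MC
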