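import Mathlib
import Cfsg.Agent.Lib.MC.MCDefs
import Cfsg.Agent.Lib.MC.MCK
import Cfsg.Agent.Lib.MC.MCCard
import Cfsg.Agent.Lib.MC.MCTwo
import Cfsg.Agent.Lib.MC.MCUnif
import Cfsg.Agent.Lib.MC.MCBil
import Cfsg.Agent.Lib.MC4.MC4DeepB
import Cfsg.Agent.Lib.MC4.MC4DeepC
import Cfsg.Agent.Lib.MC4.MC4ECNM
import Cfsg.Agent.Lib.HP.HPEngel

set_option autoImplicit false

/-! A `p`-group of maximal class of order `p^(p+1)` (`p` odd) does not have exponent `p`
(exceptional groups included), from helper14's `hp_engel`. -/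

namespace Cfsg.Agent.Helper21.MC

open scoped commutatorElement

variable {Y : Type*} [Group Y]

theorem mc4x_iterComm_shift (x s : Y) (m : ℕ) :
    iterComm ⁅x, s⁆ s m = iterComm x s (m + 1) := by
  induction m with
  | zero => rfl
  | succ m ih =>
    show ⁅iterComm ⁅x, s⁆ s m, s⁆ = ⁅iterComm x s (m + 1), s⁆
    rw [ih]

variable [Finite Y] {p : ℕ} [Fact p.Prime]

theorem mc4_not_exp_p (hY : IsMC p (p + 1) Y) (hp : p ≠ 2) : ∃ g : Y, g ^ p ≠ 1 := by
  by_contra hcon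
  have hcon' : ∀ g : Y, g ^ p = 1 := by
    intro g
    by_contra h
    exact hcon ⟨g, h⟩
  have hp' : p.Prime := Fact.out
  have hp3 : 3 ≤ p := by
    have := hp'.two_le
    omega
  have hn : 4 ≤ p + 1 := by omega
  obtain ⟨s, hs⟩ := mc4_exists_uniform hn hY hp
  obtain ⟨H, hH, hi, hK⟩ := exists_M (i := 2) (by omega : 3 ≤ p + 1) hY le_rfl (by omega)
  have hsH : s ∉ H := fun h => hs 2 le_rfl (by omega) ((hH s).1 h)
  have hex : ∃ x ∈ H, x ∉ K Y 2 := by
    by_contra h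
    have hle : H ≤ K Y 2 := by
      intro x hx
      by_contra hx'
      exact h ⟨x, hx, hx'⟩
    have h1 := Subgroup.card_mul_index H
    rw [hi, hY.1] at h1
    have h2 : Nat.card H = p ^ p := by
      have : Nat.card H * p = p ^ p * p := by rw [h1, pow_succ]
      exact Nat.eq_of_mul_eq_mul_right hp'.pos this
    have h3 : Nat.card (K Y 2) = p ^ (p + 1 - 2) := card_K (by omega) hY 2 le_rfl (by omega)
    have h4 : Nat.card H ≤ Nat.card (K Y 2) := Subgroup.card_le_of_le hle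
    rw [h2, h3] at h4
    have := (Nat.pow_le_pow_iff_right hp'.one_lt).1 h4
    omega
  obtain ⟨x, hx, hx'⟩ := hex
  have h1 : ⁅s, x⁆ ∉ K Y 3 := mc4e_comm_not_mem (by omega) hY H hK hi hx hx' hsH
  have h2 : ⁅x, s⁆ ∉ K Y 3 := by
    rw [comm_swap s x]
    intro h
    exact h1 (by simpa using (K Y 3).inv_mem h)
  have h3 : ⁅x, s⁆ ∈ K Y 2 :=
    comm_mem_succ (i := 1) le_rfl (by rw [K_one]; exact Subgroup.mem_top x) s
  have h4 := mc4_iterComm_not_mem hn hY hs (i := 2) le_rfl h3 h2 (p - 2) (by omega)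
  rw [mc4x_iterComm_shift, show p - 2 + 1 = p - 1 by omega] at h4
  have h5 := hp_engel p (K_eq_bot (by omega) hY (p + 1) le_rfl) hcon' s x
  rw [h5] at h4
  exact h4 (one_mem _)

end Cfsg.Agent.Helper21.MC
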