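import Mathlib
import Cfsg.Agent.Lib.MC.MCTwo
import Cfsg.Agent.Lib.MC4.MC4DeepC
import Cfsg.Agent.Lib.MC4.MC4Shallow
import Cfsg.Agent.Lib.MC4.MC4ECNM
import Cfsg.Agent.Lib.MC4.MC4ESEL
import Cfsg.Agent.Lib.MC4.MC4EOne
import Cfsg.Agent.Lib.MC4.MC4Count

/-!
# Block (E) of the S4144 / S5238 design: the power shift (PS) at all levels, final interface (helper22)

`Y` of maximal class of order `p ^ n`, `p` odd, `K'_1 = M_2 = {x | InM Y 2 x}`, `K'_j = K Y j` (`j ≥ 2`):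
* `mc4_ps_upper`, `mc4_ps_upper_one`: `x ∈ K'_j ⟹ x ^ p ∈ K (j + p - 1)`;
* `mc4_ps_lower`, `mc4_ps_lower_one`: `x ∈ K'_j`, `x ∉ K'_(j+1)`, `j + p ≤ n ⟹ x ^ p ∉ K (j + p)`;
* `mc4_relIndex_le`: for `n ≥ p + 2` every subgroup `H` satisfies `|H : ℧₁(H)| ≤ p ^ p` (with helper18's `mc4_count`).
-/

set_option autoImplicit false

namespace Cfsg.Agent.Helper21.MC

open scoped commutatorElement
open Cfsg.Agent.Helper23.ExactHP

variable {Y : Type*} [Group Y] [Finite Y] {p : ℕ} [Fact p.Prime] {n : ℕ}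

/-- **(E1)** -/
theorem mc4_ps_upper (hn : 4 ≤ n) (hY : IsMC p n Y) (hp : p ≠ 2) {j : ℕ} (hj : 2 ≤ j) {x : Y}
    (hx : x ∈ K Y j) : x ^ p ∈ K Y (j + p - 1) := by
  obtain ⟨s, hs⟩ := mc4_exists_uniform hn hY hp
  exact mc4e_ps_upper_of_uniform hn hY hs hj hx

/-- **(E2)** -/
theorem mc4_ps_lower (hn : 4 ≤ n) (hY : IsMC p n Y) (hp : p ≠ 2) {j : ℕ} (hj : 2 ≤ j)
    (hjn : j + p ≤ n) {x : Y} (hx : x ∈ K Y j) (hx' : x ∉ K Y (j + 1)) : x ^ p ∉ K Y (j + p) := by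
  obtain ⟨s, hs⟩ := mc4_exists_uniform hn hY hp
  exact mc4e_ps_lower_of_uniform hn hY hs hj hjn hx hx'

theorem mc4e_three_le (hp : p ≠ 2) : 3 ≤ p := by
  have hpp : p.Prime := Fact.out
  have := hpp.two_le
  omega

/-- **(E3)** -/
theorem mc4_ps_upper_one (hn : 4 ≤ n) (hY : IsMC p n Y) (hp : p ≠ 2) (hnp : p + 2 ≤ n) {x : Y}
    (hx : InM Y 2 x) : x ^ p ∈ K Y p := by
  have hp3 := mc4e_three_le hp
  have hn5 : 5 ≤ n := by omega
  have hall := mc4_all_eq (by omega : 3 ≤ n) hY hp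
  obtain ⟨s, hs, hxs⟩ := mc4e_exists_uniform_pair hn5 hY hp hall hx
  have h1 := mc4e_pow_adIter_one hn5 hY hnp hall hs hxs hx
  have hx1 : x ∈ K Y 1 := by rw [K_one]; trivial
  have h2 : adIter s x (p - 1) ∈ K Y p := by
    have := mc4e_adIter_mem s le_rfl hx1 (p - 1)
    rwa [show 1 + (p - 1) = p by omega] at this
  have h3 : x ^ p * adIter s x (p - 1) ∈ K Y p := K_antitone (by omega) h1
  have := mul_mem h3 (inv_mem h2)
  rwa [mul_inv_cancel_right] at this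

/-- **(E4)** -/
theorem mc4_ps_lower_one (hn : 4 ≤ n) (hY : IsMC p n Y) (hp : p ≠ 2) (hnp : p + 2 ≤ n) {x : Y}
    (hx : InM Y 2 x) (hx' : x ∉ K Y 2) : x ^ p ∉ K Y (p + 1) := by
  have hp3 := mc4e_three_le hp
  have hn5 : 5 ≤ n := by omega
  have hall := mc4_all_eq (by omega : 3 ≤ n) hY hp
  obtain ⟨s, hs, hxs⟩ := mc4e_exists_uniform_pair hn5 hY hp hall hx
  have h1 := mc4e_pow_adIter_one hn5 hY hnp hall hs hxs hx
  obtain ⟨H, hH, hi, hK⟩ := exists_M (by omega : 3 ≤ n) hY (i := 2) le_rfl (by omega)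
  have hsH : s ∉ H := fun h => hs 2 le_rfl (by omega) ((hH s).1 h)
  have hxH : x ∈ H := (hH x).2 hx
  have h2 : ⁅s, x⁆ ∉ K Y (2 + 1) := mc4e_comm_not_mem (by omega) hY H hK hi hxH hx' hsH
  have hx1 : x ∈ K Y 1 := by rw [K_one]; trivial
  have h3 : ⁅s, x⁆ ∈ K Y 2 := comm_mem_succ' le_rfl hx1 s
  have h4 := mc4e_adIter_not_mem hn hY hs le_rfl h3 h2 (p - 2) (by omega)
  rw [← adIter_succ', show p - 2 + 1 = p - 1 by omega, show 2 + (p - 2) + 1 = p + 1 by omega] at h4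
  intro h5
  apply h4
  have := mul_mem (inv_mem h5) h1
  rwa [inv_mul_cancel_left] at this

/-- **(PS) ⟹ the index bound**, `n ≥ p + 2`, `p` odd, every subgroup `H`. -/
theorem mc4_relIndex_le (hn : 4 ≤ n) (hY : IsMC p n Y) (hp : p ≠ 2) (hnp : p + 2 ≤ n)
    (H : Subgroup Y) :
    (Subgroup.closure {y : Y | ∃ h ∈ H, y = h ^ p}).relIndex H ≤ p ^ p :=
  mc4_count hn hY hnp (fun _ hj _ hx => mc4_ps_upper hn hY hp hj hx)
    (fun _ hj hjn _ hx hx' => mc4_ps_lower hn hY hp hj hjn hx hx')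
    (fun _ hx => mc4_ps_upper_one hn hY hp hnp hx)
    (fun _ hx hx' => mc4_ps_lower_one hn hY hp hnp hx hx') H

end Cfsg.Agent.Helper21.MC
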