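import Mathlib

set_option autoImplicit false

/-! Block (A) of S4144: the trivial cases (small `H`, `p = 2`, `n = p + 1`). -/

namespace Cfsg.Agent.Helper10.MC4A

variable {X : Type*} [Group X]

/-- the subgroup generated by the `p`-th powers of the elements of `H` -/
def agemo (p : ℕ) (H : Subgroup X) : Subgroup X := Subgroup.closure {y : X | ∃ h ∈ H, y = h ^ p}

theorem agemo_le (p : ℕ) (H : Subgroup X) : agemo p H ≤ H := by
  unfold agemo
  rw [Subgroup.closure_le]
  rintro y ⟨h, hh, rfl⟩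
  exact pow_mem hh p

theorem pow_mem_agemo (p : ℕ) {H : Subgroup X} {h : X} (hh : h ∈ H) : h ^ p ∈ agemo p H :=
  Subgroup.subset_closure ⟨h, hh, rfl⟩

theorem agemo_mono (p : ℕ) {H K : Subgroup X} (hHK : H ≤ K) : agemo p H ≤ agemo p K := by
  unfold agemo
  apply Subgroup.closure_mono
  rintro y ⟨h, hh, rfl⟩
  exact ⟨h, hHK hh, rfl⟩

/-- (A1) trivial bound -/
theorem relIndex_le_card [Finite X] (B H : Subgroup X) : B.relIndex H ≤ Nat.card H :=
  Nat.le_of_dvd Nat.card_pos (Subgroup.relIndex_dvd_card B H)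

/-- (A2) the `p = 2` branch: a cyclic subgroup of index `2` -/
theorem agemo_two [Finite X] (C : Subgroup X) (hC : IsCyclic C) (hi : C.index = 2)
    (H : Subgroup X) : (agemo 2 H).relIndex H ≤ 4 := by
  classical
  -- D = H ⊓ C
  have hD2 : (H ⊓ C).relIndex H ≤ 2 := by
    rw [Subgroup.inf_relIndex_left]
    have h1 : C.relIndex H ≤ C.index := by
      have := Subgroup.relIndex_inf_le (H := C) (K := ⊤) (L := H)
      have h2 : C.relIndex H * H.index = (C ⊓ H).index := by
        rw [← Subgroup.inf_relIndex_right, Subgroup.relIndex_mul_index inf_le_right]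
      have h3 : (C ⊓ H).index ≤ C.index * H.index := Subgroup.index_inf_le
      have h4 : 0 < H.index := Nat.pos_of_ne_zero Subgroup.index_ne_zero_of_finite
      nlinarith
    omega
  -- generator of D
  have hDc : IsCyclic (H ⊓ C : Subgroup X) := by
    have : (H ⊓ C) = ((H ⊓ C).subgroupOf C).map C.subtype := by
      rw [Subgroup.map_subgroupOf_eq_of_le inf_le_right]
    have := hC
    have h5 : IsCyclic ((H ⊓ C).subgroupOf C) := inferInstance
    exact (Subgroup.subgroupOfEquivOfLe (inf_le_right : H ⊓ C ≤ C)).isCyclic.1 h5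
  obtain ⟨⟨d, hd⟩, hgen⟩ := hDc.exists_generator
  have hdH : d ∈ H := hd.1
  have hzp : H ⊓ C = Subgroup.zpowers d := by
    apply le_antisymm
    · intro x hx
      obtain ⟨k, hk⟩ := Subgroup.mem_zpowers_iff.1 (hgen ⟨x, hx⟩)
      refine Subgroup.mem_zpowers_iff.2 ⟨k, ?_⟩
      have := congrArg Subtype.val hk
      simpa using this
    · rw [Subgroup.zpowers_le]
      exact hd
  -- E = ⟨d^2⟩ ≤ agemo
  have hE : Subgroup.zpowers (d ^ 2) ≤ agemo 2 H := by
    rw [Subgroup.zpowers_le]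
    exact pow_mem_agemo 2 hdH
  have hED : Subgroup.zpowers (d ^ 2) ≤ H ⊓ C := by
    rw [hzp, Subgroup.zpowers_le]
    exact pow_mem (Subgroup.mem_zpowers d) 2
  have hE2 : (Subgroup.zpowers (d ^ 2)).relIndex (H ⊓ C) ≤ 2 := by
    have h1 : (Subgroup.zpowers (d ^ 2)).relIndex (H ⊓ C) * Nat.card (Subgroup.zpowers (d ^ 2)) =
        Nat.card (H ⊓ C : Subgroup X) := by
      have := Subgroup.card_mul_index ((Subgroup.zpowers (d ^ 2)).subgroupOf (H ⊓ C))
      rw [mul_comm] at this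
      rw [Subgroup.relIndex, ← this]
      congr 1
      exact Nat.card_congr (Subgroup.subgroupOfEquivOfLe hED).toEquiv.symm
    rw [hzp, Nat.card_zpowers, Nat.card_zpowers] at h1
    rw [hzp]
    have hod : 0 < orderOf d := orderOf_pos d
    have h2 : orderOf (d ^ 2) = orderOf d / Nat.gcd (orderOf d) 2 := orderOf_pow d
    have h3 : Nat.gcd (orderOf d) 2 ∣ orderOf d := Nat.gcd_dvd_left _ _
    have h4 : Nat.gcd (orderOf d) 2 ≤ 2 := Nat.le_of_dvd two_pos (Nat.gcd_dvd_right _ _)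
    obtain ⟨m, hm⟩ := h3
    have hgpos : 0 < Nat.gcd (orderOf d) 2 := Nat.gcd_pos_of_pos_right _ two_pos
    have h5 : orderOf (d ^ 2) = m := by
      rw [h2]
      exact Nat.div_eq_of_eq_mul_right hgpos hm
    rw [h5] at h1
    have hmpos : 0 < m := by
      rcases Nat.eq_zero_or_pos m with h | h
      · rw [h, mul_zero] at hm; omega
      · exact h
    have h6 : (Subgroup.zpowers (d ^ 2)).relIndex (Subgroup.zpowers d) * m =
        Nat.gcd (orderOf d) 2 * m := h1.trans hm
    have h7 := Nat.eq_of_mul_eq_mul_right hmpos h6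
    omega
  have h8 : (Subgroup.zpowers (d ^ 2)).relIndex H =
      (Subgroup.zpowers (d ^ 2)).relIndex (H ⊓ C) * (H ⊓ C).relIndex H :=
    (Subgroup.relIndex_mul_relIndex _ _ _ hED inf_le_left).symm
  have h9 : (Subgroup.zpowers (d ^ 2)).relIndex H ≠ 0 := by
    intro h
    have := Subgroup.relIndex_dvd_card (Subgroup.zpowers (d ^ 2)) H
    rw [h] at this
    exact (Nat.card_pos (α := H)).ne' (Nat.eq_zero_of_zero_dvd this)
  have h10 : (agemo 2 H).relIndex H ≤ (Subgroup.zpowers (d ^ 2)).relIndex H :=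
    Subgroup.relIndex_le_of_le_left hE h9
  calc (agemo 2 H).relIndex H ≤ (Subgroup.zpowers (d ^ 2)).relIndex H := h10
    _ = (Subgroup.zpowers (d ^ 2)).relIndex (H ⊓ C) * (H ⊓ C).relIndex H := h8
    _ ≤ 2 * 2 := Nat.mul_le_mul hE2 hD2
    _ = 4 := rfl

/-- (A3) `H = ⊤`, `|X| = p^(p+1)`, some `p`-th power is nontrivial -/
theorem agemo_top_of_not_exp [Finite X] {p : ℕ} [Fact p.Prime] {m : ℕ}
    (hX : Nat.card X = p ^ (m + 1)) (hg : ∃ g : X, g ^ p ≠ 1) :
    (agemo p (⊤ : Subgroup X)).relIndex ⊤ ≤ p ^ m := by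
  have hp : p.Prime := Fact.out
  obtain ⟨g, hg⟩ := hg
  rw [Subgroup.relIndex_top_right]
  have h1 := Subgroup.card_mul_index (agemo p (⊤ : Subgroup X))
  rw [hX] at h1
  have hB : agemo p (⊤ : Subgroup X) ≠ ⊥ := by
    intro h
    have := pow_mem_agemo p (Subgroup.mem_top g)
    rw [h, Subgroup.mem_bot] at this
    exact hg this
  have hcard : Nat.card (agemo p (⊤ : Subgroup X)) ∣ p ^ (m + 1) := ⟨_, h1.symm⟩
  obtain ⟨k, hk, hk2⟩ := (Nat.dvd_prime_pow hp).1 hcard
  have hk0 : k ≠ 0 := by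
    intro h
    rw [h, pow_zero] at hk2
    exact hB (Subgroup.card_eq_one.1 hk2)
  rw [hk2] at h1
  have h2 : p ^ (m + 1) = p ^ k * p ^ (m + 1 - k) := by rw [← pow_add]; congr 1; omega
  rw [h2] at h1
  have h3 := Nat.eq_of_mul_eq_mul_left (pow_pos hp.pos k) h1
  rw [h3]
  exact Nat.pow_le_pow_right hp.pos (by omega)

end Cfsg.Agent.Helper10.MC4A
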